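/-
Certificates showing that the normaliser of a subgroup of a group preserving the bracket is not maximal.
-/
import Cfsg.Agent.H38.E2a

set_option autoImplicit false

namespace Cfsg.Agent.H38.E2

open Cfsg.Agent.H57 Cfsg.Agent.H17 Cfsg.Agent.H80E Matrix

variable {G : Type*} [Group G] {ρ : G →* Mat}

theorem core (hρ : Function.Injective ρ) {N : Subgroup G} {S : Set Mat}
    (h1 : ∀ g ∈ N, ∀ X ∈ S, ∃ Y ∈ S, ρ g * Y = X * ρ g) {u g u' : G}
    (hu : ∀ X ∈ S, Commute (ρ u) X) (hN : u ∉ N) (hg : ρ u' * ρ g = ρ g * ρ u) {X : Mat}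
    (hX : X ∈ S) (hn : ¬ Commute (ρ u') X) : ¬ IsCoatom N := fun hc => by
  let C : Subgroup G :=
    { carrier := {c | ∀ X ∈ S, Commute (ρ c) X}
      one_mem' := fun X _ => by rw [map_one]; exact Commute.one_left X
      mul_mem' := fun ha hb X hX => by rw [map_mul]; exact (ha X hX).mul_left (hb X hX)
      inv_mem' := fun {c} ha X hX => Commute.units_inv_left (u := ρ.toHomUnits c) (ha X hX) }
  have k : ∀ g ∈ N, ∀ c ∈ C, g * c * g⁻¹ ∈ C := fun g hg c hc X hX => by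
    obtain ⟨Y, hY, e⟩ := h1 g hg X hX
    have e1 : ρ g * ρ g⁻¹ = 1 := by rw [← map_mul, mul_inv_cancel, map_one]
    have e2 : ρ g⁻¹ * ρ g = 1 := by rw [← map_mul, inv_mul_cancel, map_one]
    have e3 : X = ρ g * Y * ρ g⁻¹ := by rw [e, mul_assoc, e1, mul_one]
    change _ = _
    rw [e3, map_mul, map_mul]
    simp only [mul_assoc]
    rw [← mul_assoc (ρ g⁻¹), ← mul_assoc (ρ g⁻¹), e2, one_mul, one_mul, ← mul_assoc (ρ c),
      (hc Y hY).eq, mul_assoc]
  have hle : N ≤ Subgroup.normalizer (C : Set G) := fun g hg => Subgroup.mem_normalizer_iff.2 fun c =>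
    ⟨k g hg c, fun h => by simpa [mul_assoc] using k _ (inv_mem hg) _ h⟩
  have ht := hc.2 _ (lt_of_le_of_ne hle fun e => hN (e ▸ Subgroup.le_normalizer (show u ∈ C from hu)))
  have h2 := (Subgroup.mem_normalizer_iff.1 (ht ▸ Subgroup.mem_top g :
    g ∈ Subgroup.normalizer (C : Set G)) u).1 hu
  rw [← hρ (show ρ (u' * g) = ρ (g * u) by rw [map_mul, map_mul, hg]), mul_inv_cancel_right] at h2
  exact hn (h2 X hX)

variable (ρ) in
/-- the elements absorbed by `E` -/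
def St (E : Mat) : Subgroup G where
  carrier := {y | E * ρ y = E ∧ ρ y * E = E}
  one_mem' := by simp
  mul_mem' := fun ha hb => ⟨by rw [map_mul, ← mul_assoc, ha.1, hb.1],
    by rw [map_mul, mul_assoc, hb.2, ha.2]⟩
  inv_mem' := fun {a} ha => ⟨by
      conv_lhs => rw [← ha.1]
      rw [mul_assoc, ← map_mul, mul_inv_cancel, map_one, mul_one], by
      conv_lhs => rw [← ha.2]
      rw [← mul_assoc, ← map_mul, inv_mul_cancel, map_one, one_mul]⟩

variable (ρ) in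
/-- `E` is the projection onto the fixed points of `P` -/
def Proj (P : Subgroup G) (E : Mat) : Prop :=
  P ≤ St ρ E ∧ (∀ X, (∀ y ∈ P, X * ρ y = X) → X * E = X) ∧ ∀ X, (∀ y ∈ P, ρ y * X = X) → E * X = X

theorem Proj.idem {P : Subgroup G} {E : Mat} (h : Proj ρ P E) : E * E = E :=
  h.2.1 E fun _ hy => (h.1 hy).1

theorem Proj.comm {P : Subgroup G} {E : Mat} (h : Proj ρ P E) {g : G}
    (hg : g ∈ Subgroup.normalizer (P : Set G)) : Commute (ρ g) E := by
  have b : E * (ρ g * E) = ρ g * E := h.2.2 _ fun y hy => by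
    have := (h.1 ((Subgroup.mem_normalizer_iff''.1 hg y).1 hy)).2
    rw [← mul_assoc, ← map_mul, show y * g = g * (g⁻¹ * y * g) by group, map_mul, mul_assoc, this]
  have c : E * ρ g * E = E * ρ g := h.2.1 _ fun y hy => by
    have := (h.1 ((Subgroup.mem_normalizer_iff.1 hg y).1 hy)).1
    rw [mul_assoc, ← map_mul, show g * y = (g * y * g⁻¹) * g by group, map_mul, ← mul_assoc, this]
  rw [← mul_assoc, c] at b
  exact b.symm

theorem Proj.sup {A B : Subgroup G} {E F : Mat} (h1 : Proj ρ A E) (h2 : Proj ρ B F)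
    (h : Commute E F) : Proj ρ (A ⊔ B) (E * F) := by
  refine ⟨sup_le (fun y hy => ⟨?_, ?_⟩) fun y hy => ⟨?_, ?_⟩, fun X hX => ?_, fun X hX => ?_⟩
  · rw [h.eq, mul_assoc, (h1.1 hy).1]
  · rw [← mul_assoc, (h1.1 hy).2]
  · rw [mul_assoc, (h2.1 hy).1]
  · rw [h.eq, ← mul_assoc, (h2.1 hy).2]
  · rw [← mul_assoc, h1.2.1 X fun y hy => hX y (Subgroup.mem_sup_left hy),
      h2.2.1 X fun y hy => hX y (Subgroup.mem_sup_right hy)]
  · rw [mul_assoc, h2.2.2 X fun y hy => hX y (Subgroup.mem_sup_right hy),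
      h1.2.2 X fun y hy => hX y (Subgroup.mem_sup_left hy)]

theorem proj_cyc {x : G} {p : ℕ} (hp : Odd p) {E : Mat} (hE : E = ∑ i ∈ Finset.range p, ρ x ^ i)
    (h : E * ρ x = E) : Proj ρ (Subgroup.zpowers x) E := by
  have odd : ∀ X : Mat, ∑ _i ∈ Finset.range p, X = X := fun X => by
    obtain ⟨k, rfl⟩ := hp
    rw [Finset.sum_const, Finset.card_range, add_smul, mul_smul, two_smul, two, zero_add, one_smul]
  refine ⟨(Subgroup.zpowers_le_of_mem ⟨h, ?_⟩), fun X hX => ?_, fun X hX => ?_⟩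
  · refine Eq.trans ?_ h
    rw [hE]
    exact (Commute.sum_right _ _ _ fun i _ => (Commute.refl _).pow_right i).eq
  · rw [hE, Finset.mul_sum]
    refine Eq.trans (Finset.sum_congr rfl fun i _ => ?_) (odd X)
    rw [← map_pow]; exact hX _ (Subgroup.npow_mem_zpowers x i)
  · rw [hE, Finset.sum_mul]
    refine Eq.trans (Finset.sum_congr rfl fun i _ => ?_) (odd X)
    rw [← map_pow]; exact hX _ (Subgroup.npow_mem_zpowers x i)

/-- the projection of a cyclic group of order `p`, handed to `k` -/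
noncomputable def chkC (w : List ℕ) (p : ℕ) (k : ℕ → Bool) : Bool :=
  ev w fun X => hor (List.replicate p true) X fun E => mp E X fun Y =>
    Nat.beq Y E && (nz (Nat.xor X I0) && k E)

theorem chkC_spec (hρ : Function.Injective ρ) {w : List ℕ} {p : ℕ} {k : ℕ → Bool} (hp : p.Prime)
    (h2 : p ≠ 2) (h : chkC w p k = true) {x : G} (hx : ρ x = wm 78 Gs w) :
    ∃ E, k E = true ∧ Proj ρ (Subgroup.zpowers x) (pmat 78 E) ∧ orderOf x = p := by
  obtain ⟨X, h1, e1⟩ := ev_spec h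
  obtain ⟨E, h3, e2⟩ := hor_spec h1
  obtain ⟨Y, h4, e3⟩ := mp_spec h3
  simp only [Bool.and_eq_true, Nat.beq_eq] at h4
  rw [hv_geom, zero_mul, zero_add, e1, ← hx] at e2
  rw [h4.1, e1, ← hx] at e3
  refine ⟨E, h4.2.2, proj_cyc (hp.odd_of_ne_two h2) e2 e3.symm, ?_⟩
  have : Fact p.Prime := ⟨hp⟩
  refine orderOf_eq_prime (hρ ?_) fun e => ne_of_nz h4.2.1 (by rw [e1, ← hx, e, map_one, pmat_I0])
  have := geom_sum_mul (ρ x) p
  rw [← e2, mul_sub, ← e3, mul_one, sub_self] at this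
  rw [map_pow, map_one, (sub_eq_zero.1 this.symm)]

/-- data common to both kinds of certificates -/
noncomputable def chk0 (E : ℕ) (wu wg : List ℕ) (k : ℕ → ℕ → Bool) : Bool :=
  ev wu fun U => ev wg fun A => ev (wg ++ wu ++ wg.reverse) fun V => mp V A fun B => mp A U fun C =>
    Nat.beq B C && (ncm U E && k U V)

variable (hρ : Function.Injective ρ) (hi : ∀ g, Inv (ρ g)) (hw : ∀ w, ∃ g, ρ g = wm 78 Gs w)
include hρ hw

theorem chk0_spec {E : ℕ} {wu wg : List ℕ} {k : ℕ → ℕ → Bool} (h : chk0 E wu wg k = true)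
    {P : Subgroup G} (hP : Proj ρ P (pmat 78 E)) : ∃ U V, k U V = true ∧ ∀ S : Set Mat,
      (∀ g, Commute (ρ g) (pmat 78 E) → ∀ X ∈ S, ∃ Y ∈ S, ρ g * Y = X * ρ g) →
      (∀ X ∈ S, Commute (pmat 78 U) X) → ∀ X ∈ S, ¬ Commute (pmat 78 V) X →
      ¬ IsCoatom (Subgroup.normalizer (P : Set G)) := by
  obtain ⟨U, h1, e1⟩ := ev_spec h
  obtain ⟨A, h2, e2⟩ := ev_spec h1
  obtain ⟨V, h3, e3⟩ := ev_spec h2
  obtain ⟨B, h4, e4⟩ := mp_spec h3
  obtain ⟨C, h5, e5⟩ := mp_spec h4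
  simp only [Bool.and_eq_true, Nat.beq_eq] at h5
  obtain ⟨u, hu⟩ := hw wu
  obtain ⟨g, hg⟩ := hw wg
  obtain ⟨v, hv⟩ := hw (wg ++ wu ++ wg.reverse)
  rw [← hu] at e1
  rw [← hg] at e2
  rw [← hv] at e3
  refine ⟨U, V, h5.2.2, fun S a b X hX c => core hρ (fun g hg => a g (hP.comm hg)) (u := u) (g := g)
    (u' := v) (e1 ▸ b) (fun hN => ncm_spec h5.2.1 (e1 ▸ hP.comm hN)) ?_ hX (e3 ▸ c)⟩
  rw [← e1, ← e2, ← e3, ← e4, ← e5, h5.1]

include hi

/-- certificate of the first kind -/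
noncomputable def chkL (wu wg : List ℕ) (i0 : Fin 78) (E : ℕ) : Bool :=
  chk0 E wu wg fun U V => allL (fun i => adr E i fun A => mp E A fun B => cm U B) rng &&
    adr E i0 fun A => mp E A fun B => ncm V B

theorem chkL_spec {E : ℕ} {wu wg : List ℕ} {i0 : Fin 78} (h : chkL wu wg i0 E = true)
    {P : Subgroup G} (hP : Proj ρ P (pmat 78 E)) : ¬ IsCoatom (Subgroup.normalizer (P : Set G)) := by
  obtain ⟨U, V, h1, H⟩ := chk0_spec hρ hw h hP
  rw [Bool.and_eq_true] at h1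
  obtain ⟨A, h2, e2⟩ := adr_spec h1.2
  obtain ⟨B, h3, e3⟩ := mp_spec h2
  refine H {X | ∃ v, v ᵥ* pmat 78 E = v ∧ X = pmat 78 E * R v} ?_ ?_ _
    ⟨pmat 78 E i0, congrFun hP.idem i0, e2 ▸ e3⟩ (ncm_spec h3)
  · rintro g hg _ ⟨v, hv, rfl⟩
    refine ⟨_, ⟨v ᵥ* ρ g, by rw [vecMul_vecMul, hg.eq, ← vecMul_vecMul, hv], rfl⟩, ?_⟩
    rw [← mul_assoc, hg.eq, mul_assoc, hi g v, mul_assoc]
  · rintro _ ⟨v, hv, rfl⟩
    rw [← hv, R_vecMul, Finset.mul_sum]
    refine Commute.sum_right _ _ _ fun i _ => ?_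
    obtain ⟨A, h2, e2⟩ := adr_spec (allL_spec h1.1 _ (mem_rng i))
    obtain ⟨B, h3, e3⟩ := mp_spec h2
    rw [mul_smul_comm, ← e2, ← e3]
    exact (cm_spec h3).smul_right _

omit hρ hi hw in
theorem vm_xor (B : List ℕ) (a b : ℕ) :
    vecOf 78 (vm B (a ^^^ b)) = vecOf 78 (vm B a) + vecOf 78 (vm B b) := by
  funext j
  simp only [vecOf, Pi.add_apply, bit_vm, bit_xor, add_mul, Finset.sum_add_distrib]

/-- certificate of the second kind -/
noncomputable def chkP (wu wg : List ℕ) (i0 : Fin 78) (B cs : List ℕ) (m q : List Bool) (E : ℕ) :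
    Bool :=
  chk0 E wu wg fun U V =>
    allL (fun i => Nat.beq (dg (nat_lit 78) E i) (vm B (cs.getD i 0 % 64))) rng &&
    (allL (fun c => force (vm B c) fun v => slt (vm RP v) fun A => hor m A fun Y =>
      nz Y || hor q A fun Z => cm U Z) (List.range 64) &&
    adr E i0 fun A => hor m A fun Y => Nat.beq Y 0 && hor q A fun Z => ncm V Z)

theorem chkP_spec {E : ℕ} {wu wg B cs : List ℕ} {i0 : Fin 78} {m q : List Bool}
    (h : chkP wu wg i0 B cs m q E = true)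
    {P : Subgroup G} (hP : Proj ρ P (pmat 78 E)) : ¬ IsCoatom (Subgroup.normalizer (P : Set G)) := by
  obtain ⟨U, V, h1, H⟩ := chk0_spec hρ hw h hP
  simp only [Bool.and_eq_true] at h1
  obtain ⟨A, h2, e2⟩ := adr_spec h1.2.2
  obtain ⟨Y, h3, e3⟩ := hor_spec h2
  rw [Bool.and_eq_true, Nat.beq_eq] at h3
  obtain ⟨Z, h4, e4⟩ := hor_spec h3.2
  rw [h3.1, pmat_zero, e2] at e3
  refine H {X | ∃ v, v ᵥ* pmat 78 E = v ∧ hv (R v) m 0 = 0 ∧ X = hv (R v) q 0} ?_ ?_ _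
    ⟨pmat 78 E i0, congrFun hP.idem i0, e3.symm, e2 ▸ e4⟩ (ncm_spec h4)
  · rintro g hg _ ⟨v, hv, h0, rfl⟩
    refine ⟨_, ⟨v ᵥ* ρ g, by rw [vecMul_vecMul, hg.eq, ← vecMul_vecMul, hv], ?_, rfl⟩,
      hv_conj (hi g v) q (by simp)⟩
    have := hv_conj (hi g v) m (X := 0) (X' := 0) (by simp)
    rw [h0, zero_mul] at this
    rw [← one_mul (E2.hv _ m 0), ← map_one ρ, ← inv_mul_cancel g, map_mul, mul_assoc, this, mul_zero]
  · rintro _ ⟨v, hv, h0, rfl⟩
    let T : AddSubmonoid Vec :=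
      { carrier := {v | ∃ c < 2 ^ 6, v = vecOf 78 (vm B c)}
        zero_mem' := ⟨0 ^^^ 0, by decide, by
          rw [vm_xor]; funext j; exact (CharTwo.add_self_eq_zero _).symm⟩
        add_mem' := fun ⟨a, ha, ea⟩ ⟨b, hb, eb⟩ =>
          ⟨a ^^^ b, Nat.xor_lt_two_pow ha hb, by rw [vm_xor, ea, eb]⟩ }
    obtain ⟨c, hc, rfl⟩ : v ∈ T := by
      rw [← hv, Matrix.vecMul_eq_sum]
      refine sum_mem fun i _ => ?_
      have : pmat 78 E i ∈ T := ⟨_, Nat.mod_lt _ (by decide), congrArg (vecOf 78)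
        (Nat.eq_of_beq_eq_true (allL_spec h1.1 _ (mem_rng i)))⟩
      rcases (by decide : ∀ a : ZMod 2, a = 0 ∨ a = 1) (v i) with e | e
      · rw [e, zero_smul]; exact zero_mem _
      · rw [e, one_smul]; exact this
    have h5 := allL_spec h1.2.1 c (List.mem_range.2 hc)
    rw [force_eq, slt_eq] at h5
    obtain ⟨Y, h6, e6⟩ := hor_spec h5
    rw [pmat_ad, h0] at e6
    rw [Bool.or_eq_true] at h6
    obtain ⟨Z, h7, e7⟩ := hor_spec (h6.resolve_left fun e => nz_spec e e6)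
    rw [← pmat_ad, ← e7]
    exact cm_spec h7

end Cfsg.Agent.H38.E2
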