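/-
Certificates for the `p`-local subgroups of `²E₆(2)` with `p > 5`.
-/
import Cfsg.Agent.H38.E2b

set_option autoImplicit false

namespace Cfsg.Agent.H38.E2

open Cfsg.Agent.H57 Cfsg.Agent.H17 Cfsg.Agent.H80E Matrix

def wa : List ℕ := [5, 4, 9, 8, 4, 5, 3, 9, 3, 5, 8, 4, 9, 5, 2, 3, 8, 2, 4, 9, 3, 5, 8, 2, 9, 3, 0, 2, 8, 4, 1, 0, 3, 2, 9, 3, 5, 8, 2, 4, 9, 3, 1, 8, 2, 0]

def wb : List ℕ := [4, 5, 9, 8]

def w11 : List ℕ := [5, 3, 10, 10, 9, 9, 2, 10, 7, 7, 9, 7, 2, 9, 4, 6, 8, 10, 2]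

def w13 : List ℕ := [7, 2, 2, 7, 6, 9, 8, 1, 3, 2, 3, 4, 9, 8, 3, 9, 0, 6, 5, 6, 11, 1, 11, 7, 5, 0, 4, 2, 8, 8, 6, 4, 1, 3, 4, 8]

def w17 : List ℕ := [2, 8, 3, 8, 0, 9, 11, 1, 8, 9, 3, 2, 3, 3, 10, 0, 11, 0, 3, 9]

def w19 : List ℕ := [1, 7, 3, 1, 7, 1, 10, 10, 3, 10, 5, 3, 6, 6, 0, 7, 10, 4, 10, 2, 7, 1, 8, 3, 0, 4, 7, 8, 4, 0, 10, 7, 9, 8, 9, 6, 6, 9]

theorem c11 : chkC w11 11 (chkL [2] [0] 2) = true := by decide +kernel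

theorem ca : chkC wa 7 (chkL [0] [2] 0) = true := by decide +kernel

theorem cb : chkC wb 7 (chkL [8] [2] 2) = true := by decide +kernel

theorem c13 : chkC w13 13 (chkP [9, 5, 8, 4, 3, 9, 2, 8, 2, 0, 2, 0, 8, 2, 4, 9, 3, 5, 8, 9]
    [2] 3
    [nat_lit 0x22299c70fd7ba9b05b4f, nat_lit 0x57f6b0cc5befa1e39f7, nat_lit 0xb3ed8f2c06002100006, nat_lit 0x2274193b617233f802e, nat_lit 0x1d5f942b9ac906f9f1, nat_lit 0x12c0e3280642d6887fe1]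
    [1, 3, 5, 10, 8, 11, 16, 22, 32, 40, 52, 10, 33, 8, 49, 51, 22, 3, 38, 62, 25, 62, 27, 48, 11, 62, 10, 24, 57, 60, 26, 37, 49, 57, 23, 5, 38, 1, 50, 43, 2, 18, 42, 62, 17, 1, 17, 22, 45, 38, 24, 12, 43, 3, 6, 0, 17, 58, 21, 2, 10, 44, 7, 19, 19, 23, 59, 47, 7, 7, 2, 18, 23, 22, 6, 7, 23, 7]
    []
    [true, false, false, false, false, false, false, false, false, false, false, false, true, false, false, true, false]) = true := by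
  decide +kernel

theorem c17 : chkC w17 17 (chkP [3, 9, 2, 8, 2, 0, 2, 0, 8, 2, 9, 3]
    [4] 0
    [nat_lit 0x80603d540000001, nat_lit 0x2400510ff40000022, nat_lit 0x420503538000002e, nat_lit 0x8, nat_lit 0x14, nat_lit 0x12501104000000e]
    [1, 2, 6, 8, 22, 36, 0, 0, 0, 0, 0, 0, 0, 0, 0, 0, 0, 0, 0, 0, 0, 0, 0, 0, 0, 0, 0, 0, 0, 0, 44, 6, 24, 0, 42, 14, 14, 16, 24, 0, 44, 8, 0, 0, 60, 52, 0, 0, 50, 30, 44, 0, 0, 16, 0, 0, 44, 52, 6, 30, 0, 0, 42, 0, 0, 58, 0, 0, 0, 0, 0, 0, 0, 0, 0, 0, 0, 0]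
    []
    [true, false, false, false, false, false, false, false, false, false, false, false, false, false, false, true, false]) = true := by
  decide +kernel

theorem c19 : chkC w19 19 (chkP [7, 9, 5, 8, 4, 3, 11, 3, 7, 11, 3, 7, 2, 8, 2, 6, 9, 10, 2, 3, 6, 0, 2, 8, 2, 0, 2, 4, 9, 8, 2, 0, 10, 2, 8, 6, 10, 2, 1, 3, 9, 3, 5, 9, 3, 1, 2, 3, 11, 3, 7, 9, 3, 1, 3, 7, 9]
    [0] 4
    [nat_lit 0x3f995b6bd4effdc2c5a9, nat_lit 0x10bb9c5c574cebc0039, nat_lit 0x819ce212c7aa160015, nat_lit 0xe46c494b97abbd15e04, nat_lit 0x7e3ac62b30721974408, nat_lit 0x41e4c8b1ca950a000b]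
    [1, 2, 4, 8, 25, 47, 28, 28, 43, 36, 36, 15, 28, 11, 4, 55, 10, 26, 49, 31, 29, 48, 62, 26, 55, 20, 52, 4, 55, 4, 32, 35, 18, 41, 28, 4, 10, 47, 10, 48, 53, 4, 61, 35, 40, 13, 42, 12, 22, 34, 51, 54, 44, 47, 60, 43, 35, 18, 53, 10, 57, 16, 34, 14, 2, 4, 28, 36, 55, 55, 24, 56, 0, 36, 55, 28, 28, 0]
    [true, false, false, false, true, false, false, false, false, false, false, false, false, false, false, false, false, false, true, false, true, false, false, false, false, false, false, true, false, false, false, false, true, false, true, true, true, false]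
    [true, false, false, true, true, false, true, false, true, true, true, false, true, true, true, false, true, true, true, false, true, false, false, true, false, false, false, false, false, true, true, true, false, true, true, true, true]) = true := by
  decide +kernel

theorem c49 : (chkC wa 7 fun E => chkC wb 7 fun F => cm E F && ev wa fun A => mp F A fun Y =>
    nz (Nat.xor Y F) && mp E F (chkP [2, 8, 2, 4, 8, 2, 0, 2, 8, 2, 4, 8, 2, 0, 2, 8, 2, 4, 8, 2, 0, 2, 8, 2, 4, 8, 2, 0]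
    [3, 1] 1
    [nat_lit 0x408014000000, nat_lit 0xc10028000000, nat_lit 0x30000000000800000080, nat_lit 0x10000100000000000065, nat_lit 0x140004000009, nat_lit 0x3c0008000012]
    [1, 2, 4, 1, 2, 5, 8, 12, 0, 0, 0, 0, 0, 0, 0, 0, 0, 0, 0, 0, 0, 0, 0, 0, 0, 0, 16, 32, 1, 2, 0, 0, 0, 0, 0, 4, 0, 0, 0, 1, 2, 0, 16, 48, 16, 48, 17, 51, 0, 0, 0, 0, 0, 0, 0, 0, 8, 0, 0, 0, 0, 0, 0, 0, 0, 0, 0, 0, 0, 0, 0, 0, 0, 0, 0, 0, 8, 4]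
    []
    [true, false, true, true, false])) = true := by
  decide +kernel

def cj : List (List ℕ × Bool × ℕ) := [([], true, 1),
  ([4, 5, 6, 8, 4, 11, 3, 9, 3, 11, 5, 6, 11, 3, 2, 8, 2, 6, 9, 10, 2, 4, 0, 2, 8, 2, 4, 8, 2, 0, 2, 11, 8, 4, 10, 2, 8, 2, 0, 10, 4, 1, 3, 9, 11, 3, 5, 11, 3, 1, 3, 9, 3, 7, 9, 3, 1, 0, 11, 5, 10], true, 1),
  ([8, 4, 5, 8, 6, 9, 5, 3, 9, 3, 5, 8, 4, 2, 8, 2, 4, 5, 8, 2, 9, 5, 0, 2, 8, 2, 0, 4, 8, 2, 0, 2, 9, 8, 2, 3, 4, 8, 2, 0, 2, 1, 3, 9, 3, 1, 5, 9, 3, 1, 9, 3, 2, 9, 5, 4, 9, 3, 1, 0], true, 6),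
  ([10, 6, 3, 11, 3, 9, 5, 9, 2, 3, 8, 2, 6, 8, 6, 0, 2, 10, 2, 4, 8, 2, 0, 2, 10, 2, 8, 6, 10, 2, 0, 2, 9, 3, 9, 1, 3, 9, 11, 3, 5, 11, 3, 1, 3, 9, 3, 7, 9, 3, 1, 0, 11, 5, 10], false, 3),
  ([5, 9, 5, 8, 4, 8, 11, 3, 9, 3, 5, 9, 3, 5, 8, 9, 2, 10, 2, 6, 8, 2, 10, 0, 2, 8, 2, 4, 8, 2, 0, 2, 6, 10, 2, 6, 8, 2, 0, 6, 10, 2, 8, 1, 3, 9, 3, 5, 8, 9, 3, 1, 2, 3, 9, 3, 5, 9, 3, 1, 0, 5], true, 6),
  ([6, 5, 3, 9, 3, 5, 8, 11, 2, 3, 10, 2, 6, 8, 2, 9, 3, 0, 2, 0, 10, 2, 6, 10, 2, 0, 2, 8, 2, 6, 8, 2, 0, 2, 4, 10, 6, 1, 3, 9, 3, 1, 0, 5, 4, 9, 3, 1, 2, 9, 3, 5, 9, 3, 1, 2], false, 6),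
  ([6, 5, 8, 6, 3, 9, 3, 5, 8, 4, 11, 5, 2, 8, 2, 3, 4, 8, 2, 11, 0, 2, 8, 2, 6, 8, 2, 0, 2, 3, 10, 2, 4, 8, 2, 0, 2, 11, 3, 1, 3, 9, 3, 1, 0, 7, 11, 3, 1, 2, 11, 3, 11, 5, 11, 3, 2, 11], false, 1)]

theorem cconj : allL (relP 78 Gs) ((wa ++ wb, wb ++ wa) :: (List.range 7).map fun j =>
    ((cj.getD j default).1 ++ (wa ++ wpow wb j),
      wpow (cond (cj.getD j default).2.1 wa wb) (cj.getD j default).2.2 ++ (cj.getD j default).1)) =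
    true := by
  decide +kernel

end Cfsg.Agent.H38.E2
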