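/-
The `p`-local subgroups of `²E₆(2)` with `p > 5` are not maximal.
-/
import Cfsg.Agent.H38.E2c
import Cfsg.Agent.H40.E6b
import Cfsg.Agent.H37.Rel2
import Cfsg.Agent.H37.OkE6

set_option autoImplicit false

namespace Cfsg.Agent.H38.E2

open Cfsg.Agent.H57 Cfsg.Agent.H17 Cfsg.Agent.H80E

section
variable {G : Type*} [Group G]

theorem coatom_conj {P : Subgroup G} (g : G) (h : IsCoatom (Subgroup.normalizer (P : Set G))) :
    IsCoatom (Subgroup.normalizer ((P.map (MulAut.conj g).toMonoidHom : Subgroup G) : Set G)) := by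
  rw [← Subgroup.map_normalizer_eq_of_bijective _ (MulAut.conj g).bijective]
  exact ((MulAut.conj g).mapSubgroup.isCoatom_iff _).2 h

theorem card_conj (P : Subgroup G) (g : G) :
    Nat.card (P.map (MulAut.conj g).toMonoidHom) = Nat.card P :=
  Subgroup.card_map_of_injective (MulAut.conj g).injective

variable [Finite G]

theorem eq_of_mem {p : ℕ} (hp : p.Prime) {A B : Subgroup G} (hA : Nat.card A = p)
    (hB : Nat.card B = p) {y : G} (h1 : y ∈ A) (h2 : y ∈ B) (hy : y ≠ 1) : A = B := by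
  have k : ∀ C : Subgroup G, Nat.card C = p → y ∈ C → Subgroup.zpowers y = C := fun C hC h => by
    have hle := (Subgroup.zpowers_le (H := C)).2 h
    refine Subgroup.eq_of_le_of_card_ge hle ?_
    rcases (Nat.dvd_prime hp).1 (hC ▸ Subgroup.card_dvd_of_le hle) with e | e
    · exact absurd (Subgroup.zpowers_eq_bot.1 (Subgroup.card_eq_one.1 e)) hy
    · rw [e, hC]
  rw [← k A hA h1, k B hB h2]

theorem conj_le {p : ℕ} (hp : p.Prime) {P S : Subgroup G} (hP : IsPGroup p P)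
    (hS : Nat.card S = p ^ (Nat.card G).factorization p) :
    ∃ g : G, P.map (MulAut.conj g).toMonoidHom ≤ S := by
  have : Fact p.Prime := ⟨hp⟩
  obtain ⟨Q, hQ⟩ := hP.exists_le_sylow
  obtain ⟨g, hg⟩ := MulAction.exists_smul_eq G Q (Sylow.ofCard S hS)
  refine ⟨g, ?_⟩
  have e : (Q : Subgroup G).map (MulAut.conj g).toMonoidHom = S := congrArg Sylow.toSubgroup hg
  exact e ▸ Subgroup.map_mono hQ

theorem cyc_case {p : ℕ} (hp : p.Prime) (h1 : (Nat.card G).factorization p = 1) {x : G}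
    (hx : orderOf x = p) (h : ¬ IsCoatom (Subgroup.normalizer (Subgroup.zpowers x : Set G)))
    {P : Subgroup G} (hP : IsPGroup p P) (hP1 : P ≠ ⊥) :
    ¬ IsCoatom (Subgroup.normalizer (P : Set G)) := fun hc => by
  have hS : Nat.card (Subgroup.zpowers x) = p := by rw [Nat.card_zpowers, hx]
  obtain ⟨g, hg⟩ := conj_le hp hP (S := Subgroup.zpowers x) (by rw [h1, pow_one, hS])
  refine h (Subgroup.eq_of_le_of_card_ge hg ?_ ▸ coatom_conj g hc)
  rcases (Nat.dvd_prime hp).1 (hS ▸ Subgroup.card_dvd_of_le hg) with e | e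
  · exact absurd (Subgroup.card_eq_one.1 ((card_conj P g).symm.trans e)) hP1
  · rw [e, hS]

theorem seven_case (h1 : (Nat.card G).factorization 7 = 2) {a b : G} (ha : orderOf a = 7)
    (hb : orderOf b = 7) (hab : Commute a b) (hn : a ∉ Subgroup.zpowers b)
    (k1 : ¬ IsCoatom (Subgroup.normalizer (Subgroup.zpowers a : Set G)))
    (k2 : ¬ IsCoatom (Subgroup.normalizer (Subgroup.zpowers b : Set G)))
    (k3 : ¬ IsCoatom (Subgroup.normalizer
      ((Subgroup.zpowers a ⊔ Subgroup.zpowers b : Subgroup G) : Set G)))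
    (k4 : ∀ j < 7, ∃ g : G, g * (a * b ^ j) * g⁻¹ ∈ Subgroup.zpowers a ∨
      g * (a * b ^ j) * g⁻¹ ∈ Subgroup.zpowers b)
    {P : Subgroup G} (hP : IsPGroup 7 P) (hP1 : P ≠ ⊥) :
    ¬ IsCoatom (Subgroup.normalizer (P : Set G)) := fun hc => by
  have h7 : Nat.Prime 7 := by decide
  have : Fact (Nat.Prime 7) := ⟨h7⟩
  have ca : Nat.card (Subgroup.zpowers a) = 7 := by rw [Nat.card_zpowers, ha]
  have cb : Nat.card (Subgroup.zpowers b) = 7 := by rw [Nat.card_zpowers, hb]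
  have a7 : a ^ (7 : ℤ) = 1 := by exact_mod_cast ha ▸ pow_orderOf_eq_one a
  have b7 : b ^ (7 : ℤ) = 1 := by exact_mod_cast hb ▸ pow_orderOf_eq_one b
  have mem : ∀ y ∈ Subgroup.zpowers a ⊔ Subgroup.zpowers b, ∃ i j : ℤ, y = a ^ i * b ^ j := by
    let T : Subgroup G :=
      { carrier := {y | ∃ i j : ℤ, y = a ^ i * b ^ j}
        one_mem' := ⟨0, 0, by simp⟩
        mul_mem' := fun ⟨i, j, e⟩ ⟨k, l, f⟩ => ⟨i + k, j + l, by
          rw [e, f, zpow_add, zpow_add]
          exact ((hab.zpow_zpow k j).symm.mul_mul_mul_comm _ _)⟩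
        inv_mem' := fun ⟨i, j, e⟩ => ⟨-i, -j, by
          rw [e, _root_.mul_inv_rev, ← zpow_neg, ← zpow_neg, (hab.zpow_zpow _ _).eq]⟩ }
    exact sup_le (c := T) (Subgroup.zpowers_le_of_mem ⟨1, 0, by simp⟩)
      (Subgroup.zpowers_le_of_mem ⟨0, 1, by simp⟩)
  have pS : IsPGroup 7 (Subgroup.zpowers a ⊔ Subgroup.zpowers b : Subgroup G) := fun y => by
    obtain ⟨i, j, e⟩ := mem y y.2
    refine ⟨1, Subtype.ext ?_⟩
    rw [Subgroup.coe_pow, e, pow_one, (hab.zpow_zpow i j).mul_pow, ← zpow_natCast, ← zpow_natCast,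
      ← zpow_mul, ← zpow_mul, mul_comm i, mul_comm j, zpow_mul, zpow_mul]
    simp [a7, b7]
  have cS : Nat.card (Subgroup.zpowers a ⊔ Subgroup.zpowers b : Subgroup G) = 7 ^ 2 := by
    obtain ⟨Q, hQ⟩ := pS.exists_le_sylow
    have d1 := Subgroup.card_dvd_of_le hQ
    rw [Sylow.card_eq_multiplicity, h1] at d1
    obtain ⟨m, hm, e⟩ := (Nat.dvd_prime_pow h7).1 d1
    have hlt : Nat.card (Subgroup.zpowers b) <
        Nat.card (Subgroup.zpowers a ⊔ Subgroup.zpowers b : Subgroup G) := not_le.1 fun h =>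
      hn (Subgroup.eq_of_le_of_card_ge le_sup_right h ▸
        Subgroup.mem_sup_left (Subgroup.mem_zpowers a))
    rw [cb, e] at hlt
    interval_cases m <;> omega
  obtain ⟨g, hg⟩ := conj_le h7 hP (h1 ▸ cS)
  have hc' := coatom_conj g hc
  have h0 : Nat.card (P.map (MulAut.conj g).toMonoidHom) ≠ 1 := fun e =>
    hP1 (Subgroup.card_eq_one.1 ((card_conj P g).symm.trans e))
  generalize P.map (MulAut.conj g).toMonoidHom = Q at hg hc' h0
  obtain ⟨m, hm, e⟩ := (Nat.dvd_prime_pow h7).1 (cS ▸ Subgroup.card_dvd_of_le hg)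
  interval_cases m
  · exact h0 e
  swap
  · exact k3 (Subgroup.eq_of_le_of_card_ge hg (by rw [e, cS]) ▸ hc')
  rw [pow_one] at e
  obtain ⟨⟨y, hy⟩, hy1⟩ := Subgroup.ne_bot_iff_exists_ne_one.1
    fun h => h0 (Subgroup.card_eq_one.2 h)
  obtain ⟨i, j, rfl⟩ := mem y (hg hy)
  by_cases hi : (7 : ℤ) ∣ i
  · obtain ⟨i, rfl⟩ := hi
    refine k2 (eq_of_mem h7 e cb hy ?_ (fun h => hy1 (Subtype.ext h)) ▸ hc')
    rw [zpow_mul, a7, one_zpow, one_mul]
    exact Subgroup.zpow_mem_zpowers b j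
  obtain ⟨u, v, huv⟩ : IsCoprime (7 : ℤ) i :=
    (Int.prime_iff_natAbs_prime.2 (show Nat.Prime (7 : ℤ).natAbs from h7)).irreducible.coprime_iff_not_dvd.2 hi
  have hj : (j * v % 7).toNat < 7 := by omega
  have hz : a * b ^ (j * v % 7).toNat ∈ Q := by
    convert Q.zpow_mem hy v using 1
    rw [(hab.zpow_zpow i j).mul_zpow, ← zpow_mul, ← zpow_mul, ← zpow_natCast,
      Int.toNat_of_nonneg (by omega), show i * v = 1 + 7 * (-u) by linear_combination huv, zpow_add,
      zpow_mul, a7, one_zpow, mul_one, zpow_one]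
    conv_rhs => rw [← Int.mul_ediv_add_emod (j * v) 7, zpow_add, zpow_mul, b7, one_zpow, one_mul]
  obtain ⟨w, hw⟩ := k4 _ hj
  generalize (j * v % 7).toNat = n at hz hw
  have hne : w * (a * b ^ n) * w⁻¹ ≠ 1 := fun h => hn (by
    rw [conj_eq_one_iff, mul_eq_one_iff_eq_inv] at h
    rw [h]; exact inv_mem (Subgroup.npow_mem_zpowers b n))
  have hm : w * (a * b ^ n) * w⁻¹ ∈ Q.map (MulAut.conj w).toMonoidHom := ⟨_, hz, rfl⟩
  rcases hw with hw | hw
  · exact k1 (eq_of_mem h7 ((card_conj Q w).trans e) ca hm hw hne ▸ coatom_conj w hc')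
  · exact k2 (eq_of_mem h7 ((card_conj Q w).trans e) cb hm hw hne ▸ coatom_conj w hc')

omit [Finite G] in
theorem wm_append (v w : List ℕ) : wm 78 Gs (v ++ w) = wm 78 Gs v * wm 78 Gs w := by
  rw [wm, List.map_append, List.prod_append]; rfl

omit [Finite G] in
theorem wm_pow (w : List ℕ) (n : ℕ) : wm 78 Gs (wpow w n) = wm 78 Gs w ^ n := by
  induction n with
  | zero => rfl
  | succ n ih => rw [pow_succ', ← ih, ← wm_append]; rfl

theorem main {ρ : G →* Mat} (hρ : Function.Injective ρ) (hi : ∀ g, Inv (ρ g))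
    (hw : ∀ w, ∃ g, ρ g = wm 78 Gs w)
    (hG : Nat.card G = 2 ^ 36 * 3 ^ 9 * 5 ^ 2 * 7 ^ 2 * 11 * 13 * 17 * 19) {p : ℕ} (hp : p.Prime)
    (h5 : 5 < p) {P : Subgroup G} (hP : IsPGroup p P) (hP1 : P ≠ ⊥) :
    ¬ IsCoatom (Subgroup.normalizer (P : Set G)) := by
  have : Fact p.Prime := ⟨hp⟩
  have hd : p ∣ Nat.card G := by
    rcases hP.card_eq_or_dvd with e | e
    · exact absurd (Subgroup.card_eq_one.1 e) hP1
    · exact e.trans (Subgroup.card_subgroup_dvd_card P)
  have fa : ∀ q k : ℕ, q.Prime → q ^ k ∣ Nat.card G → ¬ q ^ (k + 1) ∣ Nat.card G →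
      (Nat.card G).factorization q = k := fun q k hq h1 h2 => by
    rw [hq.pow_dvd_iff_le_factorization Nat.card_pos.ne'] at h1 h2
    omega
  have cyc : ∀ {w : List ℕ} {k : ℕ → Bool}, p ≠ 2 → chkC w p k = true →
      (∀ E, k E = true → ∀ P : Subgroup G, Proj ρ P (pmat 78 E) →
        ¬ IsCoatom (Subgroup.normalizer (P : Set G))) → ¬ p ^ 2 ∣ Nat.card G →
      ¬ IsCoatom (Subgroup.normalizer (P : Set G)) := fun {w k} h2 h hk hn => by
    obtain ⟨x, hx⟩ := hw w
    obtain ⟨E, h1, h3, h4⟩ := chkC_spec hρ hp h2 h hx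
    exact cyc_case hp (fa p 1 hp (by simpa using hd) hn) h4 (hk E h1 _ h3) hP hP1
  have hp' : p = 7 ∨ p = 11 ∨ p = 13 ∨ p = 17 ∨ p = 19 := by
    rw [hG] at hd
    have k : ∀ q : ℕ, q.Prime → p ∣ q → p = q := fun q hq h => (Nat.prime_dvd_prime_iff_eq hp hq).1 h
    simp only [hp.dvd_mul] at hd
    rcases hd with ((((((h | h) | h) | h) | h) | h) | h) | h
    · have := k 2 (by decide) (hp.dvd_of_dvd_pow h); omega
    · have := k 3 (by decide) (hp.dvd_of_dvd_pow h); omega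
    · have := k 5 (by decide) (hp.dvd_of_dvd_pow h); omega
    · have := k 7 (by decide) (hp.dvd_of_dvd_pow h); omega
    · have := k 11 (by decide) h; omega
    · have := k 13 (by decide) h; omega
    · have := k 17 (by decide) h; omega
    · have := k 19 (by decide) h; omega
  rcases hp' with rfl | rfl | rfl | rfl | rfl
  · obtain ⟨a, ha⟩ := hw wa
    obtain ⟨b, hb⟩ := hw wb
    obtain ⟨E, h1, h2, h3⟩ := chkC_spec hρ hp (by decide) ca ha
    obtain ⟨F, h4, h6, h7⟩ := chkC_spec hρ hp (by decide) cb hb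
    obtain ⟨E', k1, k2, -⟩ := chkC_spec hρ hp (by decide) c49 ha
    obtain ⟨F', k3, k4, -⟩ := chkC_spec hρ hp (by decide) k1 hb
    rw [Bool.and_eq_true] at k3
    obtain ⟨A, k5, e1⟩ := ev_spec k3.2
    obtain ⟨Y, k6, e2⟩ := mp_spec k5
    rw [Bool.and_eq_true] at k6
    obtain ⟨Z, k7, e3⟩ := mp_spec k6.2
    have r := relP_spec okGs cconj
    refine seven_case (fa 7 2 hp (by rw [hG]; decide) (by rw [hG]; decide)) h3 h7 (hρ ?_)
      (fun h => ne_of_nz k6.1 (by rw [e2, e1, ← ha, (k4.1 h).1])) (chkL_spec hρ hi hw h1 h2)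
      (chkL_spec hρ hi hw h4 h6) (chkP_spec hρ hi hw k7 (e3 ▸ k2.sup k4 (cm_spec k3.1)))
      (fun j hj => ?_) hP hP1
    · have := r _ List.mem_cons_self
      rw [wm_append, wm_append] at this
      rw [map_mul, map_mul, ha, hb, this]
    · have := r _ (List.mem_cons_of_mem _ (List.mem_map_of_mem (List.mem_range.2 hj)))
      obtain ⟨g, hg⟩ := hw (cj.getD j default).1
      simp only [wm_append, wm_pow, ← hg] at this
      refine ⟨g, ?_⟩
      cases h : (cj.getD j default).2.1 <;> rw [h] at this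
      · rw [cond_false, ← ha, ← hb, ← map_pow, ← map_pow, ← map_mul, ← map_mul, ← map_mul] at this
        rw [hρ this, mul_inv_cancel_right]
        exact Or.inr (Subgroup.npow_mem_zpowers _ _)
      · rw [cond_true, ← ha, ← hb, ← map_pow, ← map_pow, ← map_mul, ← map_mul, ← map_mul] at this
        rw [hρ this, mul_inv_cancel_right]
        exact Or.inl (Subgroup.npow_mem_zpowers _ _)
  · exact cyc (by decide) c11 (fun E h P hP => chkL_spec hρ hi hw h hP) (by rw [hG]; decide)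
  · exact cyc (by decide) c13 (fun E h P hP => chkP_spec hρ hi hw h hP) (by rw [hG]; decide)
  · exact cyc (by decide) c17 (fun E h P hP => chkP_spec hρ hi hw h hP) (by rw [hG]; decide)
  · exact cyc (by decide) c19 (fun E h P hP => chkP_spec hρ hi hw h hP) (by rw [hG]; decide)

end

end Cfsg.Agent.H38.E2
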