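import Cfsg.Agent.H38.PcTree
import Cfsg.Agent.H17.MatG
import Cfsg.Agent.H29.Triality2
import Cfsg.Agent.S0293

/-! Elements of order three of `PΩ⁺(8, 3)`: representatives of the conjugacy classes. -/

set_option autoImplicit false
set_option maxRecDepth 100000
set_option linter.style.haveILetI false

namespace Cfsg.Agent.H38.O8

open Matrix QuadraticMap Subgroup Cfsg.Agent.H28 Cfsg.Agent.H29 Cfsg.Agent.H17 Cfsg.Agent.H38.PT

local notation "𝔽" => ZMod 3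
local notation "ι" => Fin 4 ⊕ Fin 4
local notation "𝐐" => qPlus 4 (ZMod 3)
local notation "Ω" => Omega (ZMod 3) (qPlus 4 (ZMod 3))
local notation "PΩ" => POmega (ZMod 3) (qPlus 4 (ZMod 3))

/-- the numbering of the basis -/
def e8 : Fin 8 ≃ ι := (finSumFinEquiv (m := 4) (n := 4)).symm

/-- matrices of isometries -/
def mu : O 𝐐 →* Matrix (Fin 8) (Fin 8) 𝔽 where
  toFun s := (mat s).submatrix e8 e8
  map_one' := by simp [mat]
  map_mul' s t := (submatrix_mul_equiv (mat s) (mat t) e8 e8 e8).symm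

theorem mu_injective : Function.Injective mu := fun s t h =>
  Subtype.ext (Units.ext (Matrix.ext fun i j => by
    have := congrFun (congrFun h (e8.symm i)) (e8.symm j)
    simpa [mu] using this))

theorem mu_mulVec (s : O 𝐐) (v : Fin 8 → 𝔽) : mu s *ᵥ v = rho 𝐐 s (v ∘ e8.symm) ∘ e8 :=
  submatrix_mulVec_equiv _ _ _ _

theorem mu_entry (s : O 𝐐) (r c : Fin 8) : mu s r c = rho 𝐐 s (Pi.single (e8 c) 1) (e8 r) := by
  change _ = (mat s *ᵥ Pi.single (e8 c) 1) (e8 r)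
  rw [mulVec_single_one]; rfl

theorem pol_single : ∀ a c : Fin 8, polar 𝐐 (Pi.single (e8 a) 1) (Pi.single (e8 c) 1) =
    if c = a + 4 then 1 else 0 := by
  simp only [b8_apply]
  decide +kernel

/-- the matrix of a root element -/
def sgM (a b : Fin 8) : Matrix (Fin 8) (Fin 8) 𝔽 := Matrix.of fun r c =>
  (if r = c then 1 else 0) + (if c = a + 4 then 1 else 0) * (if r = b then 1 else 0) -
    (if c = b + 4 then 1 else 0) * (if r = a then 1 else 0)

theorem mu_sg8 (a b : Fin 8) (h : polar 𝐐 (Pi.single (e8 a) 1) (Pi.single (e8 b) 1) = 0) :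
    mu (sg8 (e8 a) (e8 b) h).1 = sgM a b := by
  ext r c
  rw [mu_entry, rho_sg8, pol_single, pol_single]
  simp only [sgM, Pi.single_apply, Pi.add_apply, Pi.sub_apply, Pi.smul_apply, smul_eq_mul, of_apply,
    EmbeddingLike.apply_eq_iff_eq]

/-- the letters -/
def lt (l : ℕ) : Fin 8 × Fin 8 := ([(0, 5), (1, 6), (2, 7), (2, 3), (0, 6), (1, 7), (1, 3), (0, 7), (0, 3), (1, 2), (0, 2), (0, 1), (5,
    0), (6, 1), (7, 2), (3, 2), (6, 0), (7, 1), (3, 1), (7, 0), (3, 0), (2, 1), (2, 0), (1, 0), (4, 1),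
    (5, 2), (6, 3), (6, 7), (4, 2), (5, 3), (5, 7), (4, 3), (4, 7), (5, 6), (4, 6), (4, 5), (1, 4), (2,
    5), (3, 6), (7, 6), (2, 4), (3, 5), (7, 5), (3, 4), (7, 4), (6, 5), (6, 4), (5, 4)] : List (Fin 8 × Fin 8)).getD l (0, 0)

theorem lt_ok : ∀ l < 48, (lt l).2 ≠ (lt l).1 + 4 := by decide +kernel

/-- the root elements -/
noncomputable def g (l : ℕ) : Ω :=
  if h : l < 48 then sg8 (e8 (lt l).1) (e8 (lt l).2) (by rw [pol_single, if_neg (lt_ok l h)]) else 1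

/-- the engine -/
abbrev E : Eng := ⟨3, 8, 8, 2, 5, 43, 7⟩

/-- the matrices of the letters -/
def mats : List (List ℕ) := [[513, 256, 65536, 16777216, 4294967296, 1103806595072, 281474976710656, 72057594037927936], [1,
    131328, 65536, 16777216, 4294967296, 1099511627776, 282574488338432, 72057594037927936], [1, 256,
    33619968, 16777216, 4294967296, 1099511627776, 281474976710656, 72339069014638592], [1, 256,
    144115188075921408, 281474993487872, 4294967296, 1099511627776, 281474976710656, 72057594037927936],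
    [131073, 256, 65536, 16777216, 4294967296, 1099511627776, 281479271677952, 72057594037927936], [1,
    33554688, 65536, 16777216, 4294967296, 1099511627776, 281474976710656, 72058693549555712], [1,
    144115188075856128, 65536, 1099528404992, 4294967296, 1099511627776, 281474976710656,
    72057594037927936], [33554433, 256, 65536, 16777216, 4294967296, 1099511627776, 281474976710656,
    72057598332895232], [144115188075855873, 256, 65536, 4311744512, 4294967296, 1099511627776,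
    281474976710656, 72057594037927936], [1, 562949953421568, 1099511693312, 16777216, 4294967296,
    1099511627776, 281474976710656, 72057594037927936], [562949953421313, 256, 4295032832, 16777216,
    4294967296, 1099511627776, 281474976710656, 72057594037927936], [2199023255553, 4294967552, 65536,
    16777216, 4294967296, 1099511627776, 281474976710656, 72057594037927936], [257, 256, 65536,
    16777216, 4294967296, 1108101562368, 281474976710656, 72057594037927936], [1, 65792, 65536,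
    16777216, 4294967296, 1099511627776, 283673999966208, 72057594037927936], [1, 256, 16842752,
    16777216, 4294967296, 1099511627776, 281474976710656, 72620543991349248], [1, 256,
    72057594037993472, 562949970198528, 4294967296, 1099511627776, 281474976710656, 72057594037927936],
    [65537, 256, 65536, 16777216, 4294967296, 1099511627776, 281483566645248, 72057594037927936], [1,
    16777472, 65536, 16777216, 4294967296, 1099511627776, 281474976710656, 72059793061183488], [1,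
    72057594037928192, 65536, 2199040032768, 4294967296, 1099511627776, 281474976710656,
    72057594037927936], [16777217, 256, 65536, 16777216, 4294967296, 1099511627776, 281474976710656,
    72057602627862528], [72057594037927937, 256, 65536, 8606711808, 4294967296, 1099511627776,
    281474976710656, 72057594037927936], [1, 281474976710912, 2199023321088, 16777216, 4294967296,
    1099511627776, 281474976710656, 72057594037927936], [281474976710657, 256, 8590000128, 16777216,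
    4294967296, 1099511627776, 281474976710656, 72057594037927936], [1099511627777, 8589934848, 65536,
    16777216, 4294967296, 1099511627776, 281474976710656, 72057594037927936], [1, 257, 65536, 16777216,
    2203318222848, 1099511627776, 281474976710656, 72057594037927936], [1, 256, 65792, 16777216,
    4294967296, 564049465049088, 281474976710656, 72057594037927936], [1, 256, 65536, 16842752,
    4294967296, 1099511627776, 144396663052566528, 72057594037927936], [1, 256, 65536, 16777216,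
    4294967296, 1099511627776, 281475010265088, 72057594037993472], [1, 256, 65537, 16777216,
    562954248388608, 1099511627776, 281474976710656, 72057594037927936], [1, 256, 65536, 16777472,
    4294967296, 144116287587483648, 281474976710656, 72057594037927936], [1, 256, 65536, 16777216,
    4294967296, 1099545182208, 281474976710656, 72057594037928192], [1, 256, 65536, 16777217,
    144115192370823168, 1099511627776, 281474976710656, 72057594037927936], [1, 256, 65536, 16777216,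
    4328521728, 1099511627776, 281474976710656, 72057594037927937], [1, 256, 65536, 16777216,
    4294967296, 1099511758848, 281474976710912, 72057594037927936], [1, 256, 65536, 16777216,
    4295098368, 1099511627776, 281474976710657, 72057594037927936], [1, 256, 65536, 16777216,
    4294967808, 1099511627777, 281474976710656, 72057594037927936], [1, 258, 65536, 16777216,
    1103806595072, 1099511627776, 281474976710656, 72057594037927936], [1, 256, 66048, 16777216,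
    4294967296, 282574488338432, 281474976710656, 72057594037927936], [1, 256, 65536, 16908288,
    4294967296, 1099511627776, 72339069014638592, 72057594037927936], [1, 256, 65536, 16777216,
    4294967296, 1099511627776, 281474993487872, 72057594038059008], [1, 256, 65538, 16777216,
    281479271677952, 1099511627776, 281474976710656, 72057594037927936], [1, 256, 65536, 16777728,
    4294967296, 72058693549555712, 281474976710656, 72057594037927936], [1, 256, 65536, 16777216,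
    4294967296, 1099528404992, 281474976710656, 72057594037928448], [1, 256, 65536, 16777218,
    72057598332895232, 1099511627776, 281474976710656, 72057594037927936], [1, 256, 65536, 16777216,
    4311744512, 1099511627776, 281474976710656, 72057594037927938], [1, 256, 65536, 16777216,
    4294967296, 1099511693312, 281474976711168, 72057594037927936], [1, 256, 65536, 16777216,
    4295032832, 1099511627776, 281474976710658, 72057594037927936], [1, 256, 65536, 16777216,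
    4294967552, 1099511627778, 281474976710656, 72057594037927936]]

theorem mats_ok : MatsOK E mats := matsOK_of (by decide) (by decide +kernel)

theorem mu_g (l : ℕ) : mu (g l).1 = lmat E mats l := by
  by_cases h : l < 48
  · have : ∀ l < 48, sgM (lt l).1 (lt l).2 = lmat E mats l := by decide +kernel
    rw [g, dif_pos h, mu_sg8, this l h]
  · rw [g, dif_neg h, lmat_of_le E (not_lt.1 h)]
    exact map_one mu

theorem mu_g' {l : ℕ} (h : l < 12) : mu (g l).1 = sgM (lt l).1 (lt l).2 := by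
  rw [g, dif_pos (by omega), mu_sg8]

theorem mu_ev (w : List ℕ) : mu (ev g w).1 = (w.map (lmat E mats)).prod := by
  induction w with
  | nil => exact map_one mu
  | cons a w ih => rw [ev_cons, Subgroup.coe_mul, map_mul, ih, mu_g, List.map_cons, List.prod_cons]

/-- equality of words -/
noncomputable def eqW (ms : List (List ℕ)) (a b : List ℕ) : Bool := meqAt E 8 ms [(a, b)] 0

theorem eqW_mat {ms : List (List ℕ)} (hm : MatsOK E ms) {a b : List ℕ} (h : eqW ms a b = true) :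
    (a.map (lmat E ms)).prod = (b.map (lmat E ms)).prod :=
  meq_sound hm (m := 8) (J := 1) (by decide) (by decide +kernel) (pairs := [(a, b)])
    (fun j hj => by obtain rfl : j = 0 := by omega
                    exact h) (a, b) List.mem_cons_self

theorem eqW_sound (a b : List ℕ) (h : eqW mats a b = true) : ev g a = ev g b :=
  Subtype.ext (mu_injective (by rw [mu_ev, mu_ev]; exact eqW_mat mats_ok h))

/-- commutators -/
def cw (j k : ℕ) : List ℕ := ([[], [4], [], [], [], [7], [8], [], [], [10], [], [], [16], [], [5], [6], [], [], [], [], [], [],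
    [11], [], [], [17], [], [], [19], [], [9], [], [10], [], [], [], [], [18], [], [], [20], [9], [],
    [10], [], [], [], [], [], [], [7], [8], [], [], [], [], [], [23], [], [], [19], [], [], [21], [],
    [], [], [], [11], [], [], [], [20], [], [21], [], [], [], [], [11], [], [], [], [], [], [], [],
    [22], [], [], [23], [], [], [], [], [], [], [], [22], [], [], [23], [], [], [], [], [], [], [22],
    [], [], [], [11], [], [], [], [], [], [], [], [], [23], [], [], [], [], [], [], [], [], [], [], [],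
    [], [], [], [], [], [], [], [], [], [], []] : List (List ℕ)).getD (12 * j + k) []

/-- invariant coordinate subspaces -/
def ts (k : ℕ) : List (Fin 8) × Fin 8 × Fin 8 :=
  ([([0, 1, 2, 3, 4, 6, 7], 5, 4), ([0, 1, 2, 3, 5, 7], 6, 5), ([0, 1, 3, 6], 7, 6), ([0, 1, 6], 3, 6),
    ([0, 1, 2, 3, 4, 7], 6, 4), ([0, 2, 3, 5], 7, 5), ([0, 2, 5], 3, 5), ([1, 2, 3, 4], 7, 4), ([1, 2,
    4], 3, 4), ([0, 5], 2, 5), ([1, 4], 2, 4), ([4], 1, 4)] : List (List (Fin 8) × Fin 8 × Fin 8)).getD k ([], 0, 0)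

theorem pc : Pc g 12 := by
  have h1 : ∀ l < 12, eqW mats [l, l, l] [] = true := by decide +kernel
  have h2 : ∀ l < 12, eqW mats [l + 12, l] [] = true := by decide +kernel
  have h3 : ∀ j < 12, ∀ k < 12, (inW 12 (k + 1) (cw j k) &&
      eqW mats [k + 12, j + 12, k, j] (cw j k)) = true := by decide +kernel
  have h4 : ∀ k < 12, ∀ l < 12, (Nat.ble l k || (List.finRange 8).all fun a => (ts k).1.contains a ||
      (ts k).1.all fun c => decide (sgM (lt l).1 (lt l).2 a c = 0)) = true := by decide +kernel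
  have h4' : ∀ k < 12, (ts k).2.1 ∉ (ts k).1 ∧ (ts k).2.2 ∈ (ts k).1 ∧
      sgM (lt k).1 (lt k).2 (ts k).2.1 (ts k).2.2 ≠ 0 := by decide +kernel
  have hc : ∀ l < 12, g l ^ 3 = 1 := fun l hl => by
    simpa [ev, pow_three] using eqW_sound _ _ (h1 l hl)
  have hi : ∀ l < 12, g (l + 12) = (g l)⁻¹ := fun l hl => by
    rw [eq_inv_iff_mul_eq_one]
    simpa [ev] using eqW_sound _ _ (h2 l hl)
  refine ⟨hc, hi, fun j hj k hk => ?_, fun k hk hm => ?_⟩
  · obtain ⟨a, b⟩ := Bool.and_eq_true_iff.1 (h3 j hj k hk)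
    have := eqW_sound _ _ b
    have e := ev_mem hi a
    rw [← this] at e
    simpa [ev, hi k hk, hi j hj, mul_assoc] using e
  · obtain ⟨b, c, d⟩ := h4' k hk
    have a : ∀ l < 12, k + 1 ≤ l → ∀ a ∉ (ts k).1, ∀ c ∈ (ts k).1, sgM (lt l).1 (lt l).2 a c = 0 :=
      fun l h1 h2 a h3 c h5 => by
        have := h4 k hk l h1
        simp only [Bool.or_eq_true, Nat.ble_eq, List.all_eq_true, List.contains_iff_mem,
          decide_eq_true_eq] at this
        exact ((this.resolve_left (by omega) a (List.mem_finRange a)).resolve_left h3) c h5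
    have key : ∀ u ∈ M g 12 (k + 1), ∀ a ∉ (ts k).1, ∀ c ∈ (ts k).1, mu u.1 a c = 0 := by
      have hmul : ∀ x y : Ω, (∀ a ∉ (ts k).1, ∀ c ∈ (ts k).1, mu x.1 a c = 0) →
          (∀ a ∉ (ts k).1, ∀ c ∈ (ts k).1, mu y.1 a c = 0) →
          ∀ a ∉ (ts k).1, ∀ c ∈ (ts k).1, mu (x * y).1 a c = 0 := fun x y hx hy a ha c hc => by
        rw [Subgroup.coe_mul, map_mul, Matrix.mul_apply]
        refine Finset.sum_eq_zero fun i _ => ?_
        by_cases hi : i ∈ (ts k).1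
        · rw [hx a ha i hi, zero_mul]
        · rw [hy i hi c hc, mul_zero]
      intro u hu
      induction hu using closure_induction'' with
      | one =>
        intro a ha c hc
        rw [Subgroup.coe_one, map_one, Matrix.one_apply_ne (by rintro rfl; exact ha hc)]
      | mem x hx => obtain ⟨l, h5, h6, rfl⟩ := hx; rw [mu_g' h6]; exact a l h6 h5
      | inv_mem x hx =>
        obtain ⟨l, h5, h6, rfl⟩ := hx
        have : (g l)⁻¹ = g l * g l := by rw [inv_eq_iff_mul_eq_one, ← hc l h6, pow_three]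
        rw [this]
        exact hmul _ _ (by rw [mu_g' h6]; exact a l h6 h5) (by rw [mu_g' h6]; exact a l h6 h5)
      | mul x y _ _ p q => exact hmul _ _ p q
    exact d (mu_g' hk ▸ key _ hm _ b _ c)

/-- the representatives -/
def reps : List (List ℕ) := [[0], [0, 1], [0, 2], [0, 3], [0, 11], [0, 14], [0, 15], [0, 23], [0, 2, 3], [0, 2, 15], [0, 3, 23],
    [0, 14, 11], [0, 2, 3, 11], []]

/-- part of the tree -/
def t0 : T :=
  (.split (.split (.split (.split (.split (.split (.split (.split (.split (.leaf [] 13) (.leaf [1, 25, 1, 2, 26,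
  2, 3, 27, 3, 1, 25, 1] 0) (.leaf [1, 25, 1, 2, 26, 2, 3, 27, 3, 13, 37, 13] 0)) (.inert [1] [11] (.leaf [2,
  26, 2, 3, 27, 3, 13, 37, 13] 0)) (.inert [1] [23] (.leaf [2, 26, 2, 15, 39, 15, 13, 37, 13] 0))) (.inert [0]
  [10] (.inert [4] [23] (.leaf [2, 26, 2, 12, 36, 12, 15, 39, 15, 13, 37, 13] 0))) (.inert [0] [22] (.inert [4]
  [11] (.leaf [2, 26, 2, 3, 27, 3, 12, 36, 12, 13, 37, 13] 0)))) (.split (.inert [2] [10] (.inert [5] [11]
  (.leaf [15, 39, 15, 13, 37, 13] 0))) (.inert [2] [10] (.inert [5] [11] (.leaf [15, 39, 15, 13, 37, 13] 2)))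
  (.inert [2] [10] (.inert [5] [11] (.leaf [15, 39, 15, 13, 37, 13] 5)))) (.split (.inert [2] [22] (.inert [5]
  [23] (.leaf [3, 27, 3, 13, 37, 13] 0))) (.inert [2] [22] (.inert [5] [23] (.leaf [3, 27, 3, 13, 37, 13] 5)))
  (.inert [2] [22] (.inert [5] [23] (.leaf [3, 27, 3, 13, 37, 13] 2))))) (.split (.split (.inert [3] [10]
  (.inert [6] [11] (.leaf [14, 38, 14, 13, 37, 13] 0))) (.inert [3] [10] (.inert [6] [11] (.leaf [14, 38, 14,
  13, 37, 13] 3))) (.inert [3] [10] (.inert [6] [11] (.leaf [14, 38, 14, 13, 37, 13] 6)))) (.split (.inert [3]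
  [10] (.inert [6] [11] (.leaf [14, 38, 14, 13, 37, 13] 4))) (.inert [3] [10] (.inert [6] [11] (.leaf [2, 26, 2,
  12, 36, 12, 15, 39, 15, 13, 37, 13] 8))) (.inert [3] [10] (.inert [6] [11] (.leaf [15, 39, 15, 13, 37, 13]
  11)))) (.split (.inert [3] [10] (.inert [6] [11] (.leaf [14, 38, 14, 13, 37, 13] 7))) (.inert [3] [10] (.inert
  [6] [11] (.leaf [14, 38, 14, 13, 37, 13] 10))) (.inert [3] [10] (.inert [6] [11] (.leaf [2, 26, 2, 3, 27, 3,
  12, 36, 12, 13, 37, 13] 9))))) (.split (.split (.inert [3] [22] (.inert [6] [23] (.leaf [2, 26, 2, 13, 37, 13]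
  0))) (.inert [3] [22] (.inert [6] [23] (.leaf [2, 26, 2, 13, 37, 13] 6))) (.inert [3] [22] (.inert [6] [23]
  (.leaf [2, 26, 2, 13, 37, 13] 3)))) (.split (.inert [3] [22] (.inert [6] [23] (.leaf [15, 39, 15, 13, 37, 13]
  7))) (.inert [3] [22] (.inert [6] [23] (.leaf [2, 26, 2, 12, 36, 12, 15, 39, 15, 13, 37, 13] 9))) (.inert [3]
  [22] (.inert [6] [23] (.leaf [2, 26, 2, 13, 37, 13] 10)))) (.split (.inert [3] [22] (.inert [6] [23] (.leaf
  [2, 26, 2, 13, 37, 13] 4))) (.inert [3] [22] (.inert [6] [23] (.leaf [3, 27, 3, 13, 37, 13] 11))) (.inert [3]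
  [22] (.inert [6] [23] (.leaf [2, 26, 2, 3, 27, 3, 12, 36, 12, 13, 37, 13] 8)))))) (.split (.inert [0] [8]
  (.inert [2] [9] (.split (.inert [7] [23] (.leaf [3, 27, 3, 12, 36, 12, 13, 37, 13] 0)) (.inert [7] [23] (.leaf
  [3, 27, 3, 12, 36, 12, 13, 37, 13] 5)) (.inert [7] [23] (.leaf [3, 27, 3, 12, 36, 12, 13, 37, 13] 2)))))
  (.inert [0] [8] (.inert [2] [9] (.inert [3] [10] (.inert [7] [23] (.leaf [1, 25, 1, 2, 26, 2, 1, 25, 1, 15,
  39, 15, 12] 1))))) (.inert [0] [8] (.inert [2] [9] (.inert [3] [22] (.inert [7] [23] (.leaf [1, 25, 1, 2, 26,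
  2, 13, 37, 13, 3, 27, 3, 12] 1)))))) (.split (.inert [0] [20] (.inert [2] [21] (.split (.inert [7] [11] (.leaf
  [12, 36, 12, 15, 39, 15, 13, 37, 13] 0)) (.inert [7] [11] (.leaf [12, 36, 12, 15, 39, 15, 13, 37, 13] 2))
  (.inert [7] [11] (.leaf [12, 36, 12, 15, 39, 15, 13, 37, 13] 5))))) (.inert [0] [20] (.inert [2] [21] (.inert
  [3] [10] (.inert [7] [11] (.leaf [1, 25, 1, 2, 26, 2, 1, 25, 1, 3, 27, 3, 1] 1))))) (.inert [0] [20] (.inert
  [2] [21] (.inert [3] [22] (.inert [7] [11] (.leaf [1, 25, 1, 2, 26, 2, 13, 37, 13, 15, 39, 15, 1] 1)))))))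
  (.split (.inert [0] [7] (.split (.inert [3] [9] (.split (.inert [8] [23] (.leaf [2, 26, 2, 12, 36, 12, 13, 37,
  13] 0)) (.inert [8] [23] (.leaf [2, 26, 2, 12, 36, 12, 13, 37, 13] 6)) (.inert [8] [23] (.leaf [2, 26, 2, 12,
  36, 12, 13, 37, 13] 3)))) (.inert [3] [9] (.inert [2] [10] (.inert [8] [23] (.leaf [1, 25, 1, 3, 27, 3, 1, 25,
  1, 14, 38, 14, 12] 1)))) (.inert [3] [9] (.inert [2] [22] (.inert [8] [23] (.leaf [1, 25, 1, 3, 27, 3, 13, 37,
  13, 2, 26, 2, 12] 1)))))) (.inert [0] [7, 8, 11] (.split (.inert [3] [9] (.split (.inert [8] [23] (.leaf [2,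
  26, 2, 12, 36, 12, 13, 37, 13] 4)) (.inert [8] [23] (.leaf [3, 27, 3, 12, 36, 12, 13, 37, 13] 11)) (.inert [8]
  [23] (.leaf [2, 26, 2, 15, 39, 15, 13, 37, 13] 8)))) (.inert [3] [9] (.inert [2, 15] [10] (.inert [8] [23]
  (.leaf [12, 0, 24, 0, 1, 25, 1, 3, 27, 3, 1, 25, 1, 14, 38, 14, 12, 10] 1)))) (.inert [3] [9] (.inert [2, 15]
  [22] (.inert [8] [23] (.leaf [0, 0, 24, 0, 1, 25, 1, 3, 27, 3, 1, 25, 1, 2, 26, 2, 12, 10] 1)))))) (.inert [0]
  [7, 20, 23] (.split (.inert [3] [9] (.split (.inert [8] [23] (.leaf [12, 36, 12, 15, 39, 15, 13, 37, 13] 7))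
  (.inert [8] [23] (.leaf [2, 26, 2, 3, 27, 3, 13, 37, 13] 9)) (.inert [8] [23] (.leaf [2, 26, 2, 12, 36, 12,
  13, 37, 13] 10)))) (.inert [3] [9] (.inert [2, 3] [10] (.inert [8] [23] (.leaf [0, 3, 27, 3, 12, 36, 12, 1,
  25, 1, 2, 26, 2, 15, 39, 15, 12, 22] 1)))) (.inert [3] [9] (.inert [2, 3] [22] (.inert [8] [23] (.leaf [12, 3,
  27, 3, 12, 36, 12, 1, 25, 1, 2, 26, 2, 3, 27, 3, 12, 22] 1))))))) (.split (.inert [0] [19] (.split (.inert [3]
  [21] (.split (.inert [8] [11] (.leaf [12, 36, 12, 14, 38, 14, 13, 37, 13] 0)) (.inert [8] [11] (.leaf [12, 36,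
  12, 14, 38, 14, 13, 37, 13] 3)) (.inert [8] [11] (.leaf [12, 36, 12, 14, 38, 14, 13, 37, 13] 6)))) (.inert [3]
  [21] (.inert [2] [10] (.inert [8] [11] (.leaf [1, 25, 1, 3, 27, 3, 1, 25, 1, 2, 26, 2, 12] 1)))) (.inert [3]
  [21] (.inert [2] [22] (.inert [8] [11] (.leaf [1, 25, 1, 3, 27, 3, 13, 37, 13, 14, 38, 14, 12] 1)))))) (.inert
  [0] [19, 8, 23] (.split (.inert [3] [21] (.split (.inert [8] [11] (.leaf [12, 36, 12, 14, 38, 14, 13, 37, 13]
  7)) (.inert [8] [11] (.leaf [12, 36, 12, 14, 38, 14, 13, 37, 13] 10)) (.inert [8] [11] (.leaf [2, 26, 2, 15,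
  39, 15, 13, 37, 13] 9)))) (.inert [3] [21] (.inert [2, 3] [10] (.inert [8] [11] (.leaf [12, 0, 24, 0, 1, 25,
  1, 3, 27, 3, 1, 25, 1, 2, 26, 2, 12, 22] 1)))) (.inert [3] [21] (.inert [2, 3] [22] (.inert [8] [11] (.leaf
  [0, 0, 24, 0, 1, 25, 1, 3, 27, 3, 1, 25, 1, 14, 38, 14, 12, 22] 1)))))) (.inert [0] [19, 20, 11] (.split
  (.inert [3] [21] (.split (.inert [8] [11] (.leaf [12, 36, 12, 14, 38, 14, 13, 37, 13] 4)) (.inert [8] [11]
  (.leaf [2, 26, 2, 3, 27, 3, 13, 37, 13] 8)) (.inert [8] [11] (.leaf [12, 36, 12, 15, 39, 15, 13, 37, 13]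
  11)))) (.inert [3] [21] (.inert [2, 15] [10] (.inert [8] [11] (.leaf [0, 3, 27, 3, 12, 36, 12, 1, 25, 1, 2,
  26, 2, 3, 27, 3, 12, 10] 1)))) (.inert [3] [21] (.inert [2, 15] [22] (.inert [8] [11] (.leaf [12, 3, 27, 3,
  12, 36, 12, 1, 25, 1, 2, 26, 2, 15, 39, 15, 12, 10] 1)))))))) (.split (.split (.inert [2] [19] (.inert [3]
  [20] (.split (.split (.inert [9] [11] (.leaf [1, 25, 1] 0)) (.inert [9] [11] (.leaf [1, 25, 1] 4)) (.inert [9]
  [11] (.leaf [1, 25, 1] 7))) (.inert [0] [10] (.inert [9] [11] (.leaf [1, 25, 1, 2, 26, 2, 15, 39, 15] 1)))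
  (.inert [0] [22] (.inert [9] [11] (.leaf [1, 25, 1, 2, 26, 2, 3, 27, 3] 1)))))) (.inert [2] [19, 9, 23]
  (.inert [3] [20] (.split (.split (.inert [9] [11] (.leaf [1, 25, 1] 6)) (.inert [9] [11] (.leaf [2, 26, 2, 3,
  27, 3, 13, 37, 13] 11)) (.inert [9] [11] (.leaf [3, 27, 3, 12, 36, 12, 13, 37, 13] 9))) (.inert [0, 3] [10]
  (.inert [9] [11] (.leaf [14, 1, 25, 1, 2, 26, 2, 1, 25, 1, 15, 39, 15, 18] 1))) (.inert [0, 3] [22] (.inert
  [9] [11] (.leaf [2, 1, 25, 1, 2, 26, 2, 13, 37, 13, 3, 27, 3, 18] 1)))))) (.inert [2] [19, 21, 11] (.inert [3]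
  [20] (.split (.split (.inert [9] [11] (.leaf [1, 25, 1] 3)) (.inert [9] [11] (.leaf [12, 36, 12, 15, 39, 15,
  13, 37, 13] 8)) (.inert [9] [11] (.leaf [1, 25, 1] 10))) (.inert [0, 15] [10] (.inert [9] [11] (.leaf [2, 1,
  25, 1, 2, 26, 2, 13, 37, 13, 15, 39, 15, 6] 1))) (.inert [0, 15] [22] (.inert [9] [11] (.leaf [14, 1, 25, 1,
  2, 26, 2, 1, 25, 1, 3, 27, 3, 6] 1))))))) (.split (.inert [2] [19] (.inert [3] [20, 9, 23] (.split (.split
  (.inert [9] [11] (.leaf [1, 25, 1] 5)) (.inert [9] [11] (.leaf [1, 25, 1] 11)) (.inert [9] [11] (.leaf [2, 26,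
  2, 15, 39, 15, 13, 37, 13] 10))) (.inert [0, 2] [10] (.inert [9] [11] (.leaf [15, 1, 25, 1, 3, 27, 3, 1, 25,
  1, 14, 38, 14, 17] 1))) (.inert [0, 2] [22] (.inert [9] [11] (.leaf [3, 1, 25, 1, 3, 27, 3, 13, 37, 13, 2, 26,
  2, 17] 1)))))) (.inert [2] [19, 9, 23] (.inert [3] [20, 9, 23] (.inert [0, 2, 3] [21, 10, 23] (.split (.inert
  [9] [11] (.leaf [2, 26, 2, 12, 36, 12, 13, 37, 13] 11)) (.inert [9] [11] (.leaf [2, 15, 2, 26, 2, 15, 39, 15,
  13, 37, 13, 5, 18] 12)) (.inert [9] [11] (.leaf [0, 2, 3, 22, 2, 26, 2, 3, 27, 3, 12, 36, 12, 13, 37, 13, 2,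
  26, 2, 3, 27, 3, 0, 17, 18, 10] 1)))))) (.inert [2] [19, 21, 11] (.inert [3] [20, 9, 23] (.inert [0, 2, 15]
  [9, 22, 11] (.split (.inert [9] [11] (.leaf [12, 36, 12, 15, 39, 15, 13, 37, 13] 10)) (.inert [9] [11] (.leaf
  [12, 14, 3, 10, 2, 26, 2, 3, 27, 3, 12, 36, 12, 13, 37, 13, 2, 26, 2, 3, 27, 3, 0, 17, 6, 22] 1)) (.inert [9]
  [11] (.leaf [0, 15, 12, 36, 12, 15, 39, 15, 13, 37, 13, 2, 16, 18, 19, 9, 23] 12))))))) (.split (.inert [2]
  [19] (.inert [3] [20, 21, 11] (.split (.split (.inert [9] [11] (.leaf [1, 25, 1] 2)) (.inert [9] [11] (.leaf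
  [12, 36, 12, 14, 38, 14, 13, 37, 13] 8)) (.inert [9] [11] (.leaf [12, 36, 12, 14, 38, 14, 13, 37, 13] 9)))
  (.inert [0, 14] [10] (.inert [9] [11] (.leaf [3, 1, 25, 1, 3, 27, 3, 13, 37, 13, 14, 38, 14, 5] 1))) (.inert
  [0, 14] [22] (.inert [9] [11] (.leaf [15, 1, 25, 1, 3, 27, 3, 1, 25, 1, 2, 26, 2, 5] 1)))))) (.inert [2] [19,
  9, 23] (.inert [3] [20, 21, 11] (.inert [0, 14, 3] [9, 22, 11] (.split (.inert [9] [11] (.leaf [1, 25, 1] 9))
  (.inert [9] [11] (.leaf [12, 2, 15, 10, 2, 26, 2, 3, 27, 3, 12, 36, 12, 13, 37, 13, 2, 26, 2, 3, 27, 3, 0, 5,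
  18, 22] 1)) (.inert [9] [11] (.leaf [0, 14, 12, 36, 12, 14, 38, 14, 13, 37, 13, 3, 16, 17, 20, 9, 23] 12))))))
  (.inert [2] [19, 21, 11] (.inert [3] [20, 21, 11] (.inert [0, 14, 15] [21, 10, 23] (.split (.inert [9] [11]
  (.leaf [1, 25, 1] 8)) (.inert [9] [11] (.leaf [1, 25, 1] 12)) (.inert [9] [11] (.leaf [0, 14, 15, 22, 2, 26,
  2, 3, 27, 3, 12, 36, 12, 13, 37, 13, 2, 26, 2, 3, 27, 3, 0, 5, 6, 10] 1)))))))) (.split (.split (.inert [2]
  [7] (.inert [3] [8] (.split (.split (.inert [9] [23] (.leaf [13, 37, 13] 0)) (.inert [9] [23] (.leaf [13, 37,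
  13] 7)) (.inert [9] [23] (.leaf [13, 37, 13] 4))) (.inert [0] [10] (.inert [9] [23] (.leaf [13, 37, 13, 2, 26,
  2, 15, 39, 15] 1))) (.inert [0] [22] (.inert [9] [23] (.leaf [13, 37, 13, 2, 26, 2, 3, 27, 3] 1)))))) (.inert
  [2] [7, 9, 11] (.inert [3] [8] (.split (.split (.inert [9] [23] (.leaf [13, 37, 13] 3)) (.inert [9] [23]
  (.leaf [13, 37, 13] 10)) (.inert [9] [23] (.leaf [3, 27, 3, 12, 36, 12, 13, 37, 13] 8))) (.inert [0, 15] [10]
  (.inert [9] [23] (.leaf [14, 1, 25, 1, 2, 26, 2, 13, 37, 13, 3, 27, 3, 6] 1))) (.inert [0, 15] [22] (.inert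
  [9] [23] (.leaf [2, 1, 25, 1, 2, 26, 2, 1, 25, 1, 15, 39, 15, 6] 1)))))) (.inert [2] [7, 21, 23] (.inert [3]
  [8] (.split (.split (.inert [9] [23] (.leaf [13, 37, 13] 6)) (.inert [9] [23] (.leaf [12, 36, 12, 15, 39, 15,
  13, 37, 13] 9)) (.inert [9] [23] (.leaf [2, 26, 2, 15, 39, 15, 13, 37, 13] 11))) (.inert [0, 3] [10] (.inert
  [9] [23] (.leaf [2, 1, 25, 1, 2, 26, 2, 1, 25, 1, 3, 27, 3, 18] 1))) (.inert [0, 3] [22] (.inert [9] [23]
  (.leaf [14, 1, 25, 1, 2, 26, 2, 13, 37, 13, 15, 39, 15, 18] 1))))))) (.split (.inert [2] [7] (.inert [3] [8,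
  9, 11] (.split (.split (.inert [9] [23] (.leaf [13, 37, 13] 2)) (.inert [9] [23] (.leaf [2, 26, 2, 12, 36, 12,
  13, 37, 13] 9)) (.inert [9] [23] (.leaf [2, 26, 2, 12, 36, 12, 13, 37, 13] 8))) (.inert [0, 14] [10] (.inert
  [9] [23] (.leaf [15, 1, 25, 1, 3, 27, 3, 13, 37, 13, 2, 26, 2, 5] 1))) (.inert [0, 14] [22] (.inert [9] [23]
  (.leaf [3, 1, 25, 1, 3, 27, 3, 1, 25, 1, 14, 38, 14, 5] 1)))))) (.inert [2] [7, 9, 11] (.inert [3] [8, 9, 11]
  (.inert [0, 14, 15] [9, 22, 23] (.split (.inert [9] [23] (.leaf [13, 37, 13] 8)) (.inert [9] [23] (.leaf [0,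
  14, 15, 8, 2, 26, 2, 3, 27, 3, 12, 36, 12, 1, 25, 1, 2, 26, 2, 15, 39, 15, 5, 6, 10] 1)) (.inert [9] [23]
  (.leaf [13, 37, 13] 12)))))) (.inert [2] [7, 21, 23] (.inert [3] [8, 9, 11] (.inert [0, 14, 3] [21, 10, 11]
  (.split (.inert [9] [23] (.leaf [13, 37, 13] 9)) (.inert [9] [23] (.leaf [0, 14, 2, 26, 2, 12, 36, 12, 13, 37,
  13, 16, 17] 12)) (.inert [9] [23] (.leaf [12, 2, 15, 8, 2, 26, 2, 3, 27, 3, 12, 36, 12, 1, 25, 1, 2, 26, 2,
  15, 39, 15, 5, 18, 22] 1))))))) (.split (.inert [2] [7] (.inert [3] [8, 21, 23] (.split (.split (.inert [9]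
  [23] (.leaf [13, 37, 13] 5)) (.inert [9] [23] (.leaf [2, 26, 2, 3, 27, 3, 13, 37, 13] 10)) (.inert [9] [23]
  (.leaf [13, 37, 13] 11))) (.inert [0, 2] [10] (.inert [9] [23] (.leaf [3, 1, 25, 1, 3, 27, 3, 1, 25, 1, 2, 26,
  2, 17] 1))) (.inert [0, 2] [22] (.inert [9] [23] (.leaf [15, 1, 25, 1, 3, 27, 3, 13, 37, 13, 14, 38, 14, 17]
  1)))))) (.inert [2] [7, 9, 11] (.inert [3] [8, 21, 23] (.inert [0, 2, 15] [21, 10, 11] (.split (.inert [9]
  [23] (.leaf [3, 27, 3, 12, 36, 12, 13, 37, 13] 10)) (.inert [9] [23] (.leaf [0, 15, 3, 27, 3, 12, 36, 12, 13,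
  37, 13, 16, 18] 12)) (.inert [9] [23] (.leaf [12, 14, 3, 20, 2, 26, 2, 3, 27, 3, 12, 36, 12, 1, 25, 1, 2, 26,
  2, 15, 39, 15, 17, 6, 22] 1)))))) (.inert [2] [7, 21, 23] (.inert [3] [8, 21, 23] (.inert [0, 2, 3] [9, 22,
  23] (.split (.inert [9] [23] (.leaf [12, 36, 12, 14, 38, 14, 13, 37, 13] 11)) (.inert [9] [23] (.leaf [0, 2,
  3, 20, 2, 26, 2, 3, 27, 3, 12, 36, 12, 1, 25, 1, 2, 26, 2, 15, 39, 15, 17, 18, 10] 1)) (.inert [9] [23] (.leaf
  [2, 15, 21, 2, 26, 2, 3, 27, 3, 13, 37, 13, 5, 18, 8, 11] 12))))))))) (.split (.split (.inert [1] [6] (.split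
  (.inert [4] [8] (.inert [5] [21] (.inert [7] [22] (.split (.leaf [1, 25, 1, 0, 24, 0, 3, 27, 3, 1, 25, 1] 0)
  (.leaf [1, 25, 1, 0, 24, 0, 3, 27, 3, 1, 25, 1] 2) (.leaf [1, 25, 1, 0, 24, 0, 3, 27, 3, 1, 25, 1] 5)))))
  (.inert [4] [8] (.inert [5] [21] (.inert [7] [22] (.inert [6] [11] (.leaf [2, 26, 2, 1, 25, 1, 3, 27, 3, 12]
  1))))) (.inert [4] [8] (.inert [5] [21] (.inert [7] [22] (.inert [6] [23] (.leaf [2, 26, 2, 13, 37, 13, 15,
  39, 15, 12] 1))))))) (.inert [1] [6] (.inert [0] [7] (.inert [4] [8, 11] (.inert [5] [21] (.inert [7] [22]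
  (.inert [8] [23] (.leaf [2, 26, 2, 12, 36, 12, 13, 37, 13, 15, 39, 15, 12] 1))))))) (.inert [1] [6] (.inert
  [0] [19] (.inert [4] [8, 23] (.inert [5] [21] (.inert [7] [22] (.inert [8] [11] (.leaf [2, 26, 2, 12, 36, 12,
  1, 25, 1, 3, 27, 3, 0, 13, 4] 1)))))))) (.split (.inert [1] [6] (.inert [2] [19] (.inert [4] [8] (.inert [5]
  [21, 11] (.inert [7] [22] (.inert [9] [11] (.leaf [1, 25, 1, 3, 27, 3, 1] 1))))))) (.inert [1] [6] (.inert [2]
  [19] (.inert [4] [8, 11] (.inert [5] [21, 11] (.inert [7] [22] (.inert [9] [11] (.cube [23]))))))) (.inert [1]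
  [6] (.inert [2] [19] (.inert [4] [8, 23] (.inert [5] [21, 11] (.inert [7] [22] (.inert [9] [11] (.cube
  [11])))))))) (.split (.inert [1] [6] (.inert [2] [7] (.inert [4] [8] (.inert [5] [21, 23] (.inert [7] [22]
  (.inert [9] [23] (.leaf [13, 37, 13, 15, 39, 15, 12] 1))))))) (.inert [1] [6] (.inert [2] [7] (.inert [4] [8,
  11] (.inert [5] [21, 23] (.inert [7] [22] (.inert [9] [23] (.cube [11]))))))) (.inert [1] [6] (.inert [2] [7]
  (.inert [4] [8, 23] (.inert [5] [21, 23] (.inert [7] [22] (.inert [9] [23] (.cube [23]))))))))) (.split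
  (.split (.inert [1] [18] (.split (.inert [4] [20] (.inert [5] [9] (.inert [7] [10] (.split (.leaf [1, 25, 1,
  12, 36, 12, 15, 39, 15, 13, 37, 13] 0) (.leaf [1, 25, 1, 12, 36, 12, 15, 39, 15, 13, 37, 13] 5) (.leaf [1, 25,
  1, 12, 36, 12, 15, 39, 15, 13, 37, 13] 2))))) (.inert [4] [20] (.inert [5] [9] (.inert [7] [10] (.inert [6]
  [11] (.leaf [2, 26, 2, 1, 25, 1, 15, 39, 15, 1] 1))))) (.inert [4] [20] (.inert [5] [9] (.inert [7] [10]
  (.inert [6] [23] (.leaf [2, 26, 2, 13, 37, 13, 3, 27, 3, 1] 1))))))) (.inert [1] [18] (.inert [0] [7] (.inert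
  [4] [20, 23] (.inert [5] [9] (.inert [7] [10] (.inert [8] [23] (.leaf [2, 26, 2, 12, 36, 12, 13, 37, 13, 3,
  27, 3, 12] 1))))))) (.inert [1] [18] (.inert [0] [19] (.inert [4] [20, 11] (.inert [5] [9] (.inert [7] [10]
  (.inert [8] [11] (.leaf [2, 26, 2, 12, 36, 12, 1, 25, 1, 15, 39, 15, 1] 1)))))))) (.split (.inert [1] [18]
  (.inert [2] [19] (.inert [4] [20] (.inert [5] [9, 23] (.inert [7] [10] (.inert [9] [11] (.leaf [1, 25, 1, 15,
  39, 15, 1] 1))))))) (.inert [1] [18] (.inert [2] [19] (.inert [4] [20, 23] (.inert [5] [9, 23] (.inert [7]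
  [10] (.inert [9] [11] (.cube [11]))))))) (.inert [1] [18] (.inert [2] [19] (.inert [4] [20, 11] (.inert [5]
  [9, 23] (.inert [7] [10] (.inert [9] [11] (.cube [23])))))))) (.split (.inert [1] [18] (.inert [2] [7] (.inert
  [4] [20] (.inert [5] [9, 11] (.inert [7] [10] (.inert [9] [23] (.leaf [13, 37, 13, 3, 27, 3, 12] 1)))))))
  (.inert [1] [18] (.inert [2] [7] (.inert [4] [20, 23] (.inert [5] [9, 11] (.inert [7] [10] (.inert [9] [23]
  (.cube [23]))))))) (.inert [1] [18] (.inert [2] [7] (.inert [4] [20, 11] (.inert [5] [9, 11] (.inert [7] [10]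
  (.inert [9] [23] (.cube [11]))))))))))

/-- part of the tree -/
def t1 : T :=
  (.split (.split (.inert [1] [5] (.split (.inert [4] [7] (.split (.inert [6] [21] (.inert [8] [22] (.split
  (.leaf [1, 25, 1, 0, 24, 0, 2, 26, 2, 1, 25, 1] 0) (.leaf [1, 25, 1, 0, 24, 0, 2, 26, 2, 1, 25, 1] 3) (.leaf
  [1, 25, 1, 0, 24, 0, 2, 26, 2, 1, 25, 1] 6)))) (.inert [6] [21] (.inert [8] [22] (.inert [5] [11] (.leaf [3,
  27, 3, 1, 25, 1, 2, 26, 2, 12] 1)))) (.inert [6] [21] (.inert [8] [22] (.inert [5] [23] (.leaf [3, 27, 3, 13,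
  37, 13, 14, 38, 14, 12] 1)))))) (.inert [4] [7, 11] (.inert [0] [8] (.inert [6] [21] (.inert [8] [22] (.inert
  [7] [23] (.leaf [3, 27, 3, 12, 36, 12, 13, 37, 13, 14, 38, 14, 12] 1)))))) (.inert [4] [7, 23] (.inert [0]
  [20] (.inert [6] [21] (.inert [8] [22] (.inert [7] [11] (.leaf [3, 27, 3, 12, 36, 12, 1, 25, 1, 2, 26, 2, 0,
  13, 4] 1)))))))) (.inert [1] [5] (.split (.inert [4] [7] (.inert [3] [20] (.inert [6] [21, 11] (.inert [8]
  [22] (.inert [9] [11] (.leaf [1, 25, 1, 2, 26, 2, 1] 1)))))) (.inert [4] [7, 11] (.inert [3] [20] (.inert [6]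
  [21, 11] (.inert [8] [22] (.inert [9] [11] (.cube [23])))))) (.inert [4] [7, 23] (.inert [3] [20] (.inert [6]
  [21, 11] (.inert [8] [22] (.inert [9] [11] (.cube [11])))))))) (.inert [1] [5] (.split (.inert [4] [7] (.inert
  [3] [8] (.inert [6] [21, 23] (.inert [8] [22] (.inert [9] [23] (.leaf [13, 37, 13, 14, 38, 14, 12] 1))))))
  (.inert [4] [7, 11] (.inert [3] [8] (.inert [6] [21, 23] (.inert [8] [22] (.inert [9] [23] (.cube [11]))))))
  (.inert [4] [7, 23] (.inert [3] [8] (.inert [6] [21, 23] (.inert [8] [22] (.inert [9] [23] (.cube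
  [23]))))))))) (.split (.inert [1] [5, 6, 9] (.split (.inert [4] [7, 8, 10] (.split (.inert [6] [21] (.inert
  [8] [22] (.split (.leaf [1, 25, 1, 0, 24, 0, 2, 26, 2, 1, 25, 1] 4) (.leaf [1, 25, 1, 2, 26, 2, 3, 27, 3, 1,
  25, 1] 8) (.leaf [1, 25, 1, 0, 24, 0, 3, 27, 3, 1, 25, 1] 11)))) (.inert [6] [21] (.inert [8] [22] (.inert [5,
  18] [11] (.leaf [16, 0, 24, 0, 1, 25, 1, 0, 24, 0, 3, 27, 3, 1, 25, 1, 14, 38, 14, 0, 13, 4, 10, 23] 1))))
  (.inert [6] [21] (.inert [8] [22] (.inert [5, 18] [23] (.leaf [4, 0, 24, 0, 1, 25, 1, 0, 24, 0, 3, 27, 3, 1,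
  25, 1, 2, 26, 2, 0, 13, 4, 10, 23] 1)))))) (.inert [4] [7, 8, 10, 11] (.inert [0] [8] (.inert [6] [21] (.inert
  [8] [22] (.inert [7, 20] [23] (.leaf [13, 1, 25, 1, 3, 27, 3, 12, 36, 12, 13, 37, 13, 14, 38, 14, 12, 10]
  1)))))) (.inert [4] [7, 8, 10, 23] (.inert [0] [20] (.inert [6] [21] (.inert [8] [22] (.inert [7, 20] [11]
  (.leaf [1, 1, 25, 1, 0, 24, 0, 3, 27, 3, 1, 25, 1, 14, 38, 14, 0, 13, 4, 10, 23] 1)))))))) (.inert [1] [5, 6,
  9, 23] (.split (.inert [4] [7, 8, 10] (.inert [3] [20] (.inert [6] [21, 11] (.inert [8] [22] (.cube [10])))))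
  (.inert [4] [7, 8, 10, 11] (.inert [3] [20] (.inert [6] [21, 11] (.inert [8] [22] (.cube [10, 23]))))) (.inert
  [4] [7, 8, 10, 23] (.inert [3] [20] (.inert [6] [21, 11] (.inert [8] [22] (.cube [10, 11]))))))) (.inert [1]
  [5, 6, 9, 11] (.split (.inert [4] [7, 8, 10] (.inert [3] [8] (.inert [6] [21, 23] (.inert [8] [22] (.cube
  [22]))))) (.inert [4] [7, 8, 10, 11] (.inert [3] [8] (.inert [6] [21, 23] (.inert [8] [22] (.cube [22,
  11]))))) (.inert [4] [7, 8, 10, 23] (.inert [3] [8] (.inert [6] [21, 23] (.inert [8] [22] (.cube [22,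
  23])))))))) (.split (.inert [1] [5, 18, 21] (.split (.inert [4] [7, 20, 22] (.split (.inert [6] [21] (.inert
  [8] [22] (.split (.leaf [1, 25, 1, 0, 24, 0, 2, 26, 2, 1, 25, 1] 7) (.leaf [1, 25, 1, 0, 24, 0, 2, 26, 2, 1,
  25, 1] 10) (.leaf [1, 25, 1, 2, 26, 2, 3, 27, 3, 13, 37, 13] 9)))) (.inert [6] [21] (.inert [8] [22] (.inert
  [5, 6] [11] (.leaf [4, 0, 24, 0, 1, 25, 1, 3, 27, 3, 12, 36, 12, 1, 25, 1, 2, 26, 2, 0, 13, 4, 22, 11] 1))))
  (.inert [6] [21] (.inert [8] [22] (.inert [5, 6] [23] (.leaf [16, 0, 24, 0, 1, 25, 1, 3, 27, 3, 12, 36, 12, 1,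
  25, 1, 14, 38, 14, 0, 13, 4, 22, 11] 1)))))) (.inert [4] [7, 20, 22, 11] (.inert [0] [8] (.inert [6] [21]
  (.inert [8] [22] (.inert [7, 8] [23] (.leaf [1, 1, 25, 1, 0, 24, 0, 3, 27, 3, 13, 37, 13, 2, 26, 2, 12, 22]
  1)))))) (.inert [4] [7, 20, 22, 23] (.inert [0] [20] (.inert [6] [21] (.inert [8] [22] (.inert [7, 8] [11]
  (.leaf [13, 1, 25, 1, 3, 27, 3, 12, 36, 12, 1, 25, 1, 2, 26, 2, 0, 13, 4, 22, 11] 1)))))))) (.inert [1] [5,
  18, 21, 11] (.split (.inert [4] [7, 20, 22] (.inert [3] [20] (.inert [6] [21, 11] (.inert [8] [22] (.cube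
  [22]))))) (.inert [4] [7, 20, 22, 11] (.inert [3] [20] (.inert [6] [21, 11] (.inert [8] [22] (.cube [22,
  23]))))) (.inert [4] [7, 20, 22, 23] (.inert [3] [20] (.inert [6] [21, 11] (.inert [8] [22] (.cube [22,
  11]))))))) (.inert [1] [5, 18, 21, 23] (.split (.inert [4] [7, 20, 22] (.inert [3] [8] (.inert [6] [21, 23]
  (.inert [8] [22] (.cube [10]))))) (.inert [4] [7, 20, 22, 11] (.inert [3] [8] (.inert [6] [21, 23] (.inert [8]
  [22] (.cube [10, 11]))))) (.inert [4] [7, 20, 22, 23] (.inert [3] [8] (.inert [6] [21, 23] (.inert [8] [22]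
  (.cube [10, 23])))))))))

/-- part of the tree -/
def t2 : T :=
  (.split (.split (.inert [1] [17] (.split (.inert [4] [19] (.split (.inert [6] [9] (.inert [8] [10] (.split
  (.leaf [1, 25, 1, 12, 36, 12, 14, 38, 14, 13, 37, 13] 0) (.leaf [1, 25, 1, 12, 36, 12, 14, 38, 14, 13, 37, 13]
  6) (.leaf [1, 25, 1, 12, 36, 12, 14, 38, 14, 13, 37, 13] 3)))) (.inert [6] [9] (.inert [8] [10] (.inert [5]
  [11] (.leaf [3, 27, 3, 1, 25, 1, 14, 38, 14, 1] 1)))) (.inert [6] [9] (.inert [8] [10] (.inert [5] [23] (.leaf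
  [3, 27, 3, 13, 37, 13, 2, 26, 2, 1] 1)))))) (.inert [4] [19, 23] (.inert [0] [8] (.inert [6] [9] (.inert [8]
  [10] (.inert [7] [23] (.leaf [3, 27, 3, 12, 36, 12, 13, 37, 13, 2, 26, 2, 12] 1)))))) (.inert [4] [19, 11]
  (.inert [0] [20] (.inert [6] [9] (.inert [8] [10] (.inert [7] [11] (.leaf [3, 27, 3, 12, 36, 12, 1, 25, 1, 14,
  38, 14, 1] 1)))))))) (.inert [1] [17] (.split (.inert [4] [19] (.inert [3] [20] (.inert [6] [9, 23] (.inert
  [8] [10] (.inert [9] [11] (.leaf [1, 25, 1, 14, 38, 14, 1] 1)))))) (.inert [4] [19, 23] (.inert [3] [20]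
  (.inert [6] [9, 23] (.inert [8] [10] (.inert [9] [11] (.cube [11])))))) (.inert [4] [19, 11] (.inert [3] [20]
  (.inert [6] [9, 23] (.inert [8] [10] (.inert [9] [11] (.cube [23])))))))) (.inert [1] [17] (.split (.inert [4]
  [19] (.inert [3] [8] (.inert [6] [9, 11] (.inert [8] [10] (.inert [9] [23] (.leaf [13, 37, 13, 2, 26, 2, 12]
  1)))))) (.inert [4] [19, 23] (.inert [3] [8] (.inert [6] [9, 11] (.inert [8] [10] (.inert [9] [23] (.cube
  [23])))))) (.inert [4] [19, 11] (.inert [3] [8] (.inert [6] [9, 11] (.inert [8] [10] (.inert [9] [23] (.cube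
  [11]))))))))) (.split (.inert [1] [17, 6, 21] (.split (.inert [4] [19, 8, 22] (.split (.inert [6] [9] (.inert
  [8] [10] (.split (.leaf [1, 25, 1, 12, 36, 12, 14, 38, 14, 13, 37, 13] 7) (.leaf [1, 25, 1, 2, 26, 2, 3, 27,
  3, 1, 25, 1] 9) (.leaf [1, 25, 1, 12, 36, 12, 14, 38, 14, 13, 37, 13] 10)))) (.inert [6] [9] (.inert [8] [10]
  (.inert [5, 6] [11] (.leaf [16, 0, 24, 0, 1, 25, 1, 0, 24, 0, 3, 27, 3, 1, 25, 1, 2, 26, 2, 0, 13, 4, 22, 11]
  1)))) (.inert [6] [9] (.inert [8] [10] (.inert [5, 6] [23] (.leaf [4, 0, 24, 0, 1, 25, 1, 0, 24, 0, 3, 27, 3,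
  1, 25, 1, 14, 38, 14, 0, 13, 4, 22, 11] 1)))))) (.inert [4] [19, 8, 22, 23] (.inert [0] [8] (.inert [6] [9]
  (.inert [8] [10] (.inert [7, 8] [23] (.leaf [13, 1, 25, 1, 0, 24, 0, 3, 27, 3, 1, 25, 1, 14, 38, 14, 0, 13, 4,
  22, 11] 1)))))) (.inert [4] [19, 8, 22, 11] (.inert [0] [20] (.inert [6] [9] (.inert [8] [10] (.inert [7, 8]
  [11] (.leaf [1, 1, 25, 1, 3, 27, 3, 12, 36, 12, 13, 37, 13, 14, 38, 14, 12, 22] 1)))))))) (.inert [1] [17, 6,
  21, 11] (.split (.inert [4] [19, 8, 22] (.inert [3] [20] (.inert [6] [9, 23] (.inert [8] [10] (.cube [22])))))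
  (.inert [4] [19, 8, 22, 23] (.inert [3] [20] (.inert [6] [9, 23] (.inert [8] [10] (.cube [22, 11]))))) (.inert
  [4] [19, 8, 22, 11] (.inert [3] [20] (.inert [6] [9, 23] (.inert [8] [10] (.cube [22, 23]))))))) (.inert [1]
  [17, 6, 21, 23] (.split (.inert [4] [19, 8, 22] (.inert [3] [8] (.inert [6] [9, 11] (.inert [8] [10] (.cube
  [10]))))) (.inert [4] [19, 8, 22, 23] (.inert [3] [8] (.inert [6] [9, 11] (.inert [8] [10] (.cube [10,
  23]))))) (.inert [4] [19, 8, 22, 11] (.inert [3] [8] (.inert [6] [9, 11] (.inert [8] [10] (.cube [10,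
  11])))))))) (.split (.inert [1] [17, 18, 9] (.split (.inert [4] [19, 20, 10] (.split (.inert [6] [9] (.inert
  [8] [10] (.split (.leaf [1, 25, 1, 12, 36, 12, 14, 38, 14, 13, 37, 13] 4) (.leaf [1, 25, 1, 12, 36, 12, 15,
  39, 15, 13, 37, 13] 11) (.leaf [1, 25, 1, 2, 26, 2, 3, 27, 3, 13, 37, 13] 8)))) (.inert [6] [9] (.inert [8]
  [10] (.inert [5, 18] [11] (.leaf [4, 0, 24, 0, 1, 25, 1, 3, 27, 3, 12, 36, 12, 1, 25, 1, 14, 38, 14, 0, 13, 4,
  10, 23] 1)))) (.inert [6] [9] (.inert [8] [10] (.inert [5, 18] [23] (.leaf [16, 0, 24, 0, 1, 25, 1, 3, 27, 3,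
  12, 36, 12, 1, 25, 1, 2, 26, 2, 0, 13, 4, 10, 23] 1)))))) (.inert [4] [19, 20, 10, 23] (.inert [0] [8] (.inert
  [6] [9] (.inert [8] [10] (.inert [7, 20] [23] (.leaf [1, 1, 25, 1, 3, 27, 3, 12, 36, 12, 1, 25, 1, 2, 26, 2,
  0, 13, 4, 10, 23] 1)))))) (.inert [4] [19, 20, 10, 11] (.inert [0] [20] (.inert [6] [9] (.inert [8] [10]
  (.inert [7, 20] [11] (.leaf [13, 1, 25, 1, 0, 24, 0, 3, 27, 3, 13, 37, 13, 2, 26, 2, 12, 10] 1)))))))) (.inert
  [1] [17, 18, 9, 23] (.split (.inert [4] [19, 20, 10] (.inert [3] [20] (.inert [6] [9, 23] (.inert [8] [10]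
  (.cube [10]))))) (.inert [4] [19, 20, 10, 23] (.inert [3] [20] (.inert [6] [9, 23] (.inert [8] [10] (.cube
  [10, 11]))))) (.inert [4] [19, 20, 10, 11] (.inert [3] [20] (.inert [6] [9, 23] (.inert [8] [10] (.cube [10,
  23]))))))) (.inert [1] [17, 18, 9, 11] (.split (.inert [4] [19, 20, 10] (.inert [3] [8] (.inert [6] [9, 11]
  (.inert [8] [10] (.cube [22]))))) (.inert [4] [19, 20, 10, 23] (.inert [3] [8] (.inert [6] [9, 11] (.inert [8]
  [10] (.cube [22, 23]))))) (.inert [4] [19, 20, 10, 11] (.inert [3] [8] (.inert [6] [9, 11] (.inert [8] [10]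
  (.cube [22, 11])))))))))

/-- part of the tree -/
def t3 : T :=
  (.split (.inert [0] [4] (.inert [2] [17] (.inert [3] [18] (.split (.split (.split (.split (.inert [10] [23]
  (.leaf [12, 36, 12, 13, 37, 13] 0)) (.inert [10] [23] (.leaf [0, 24, 0, 1, 25, 1, 2, 26, 2, 3, 27, 3] 1))
  (.inert [10] [23] (.leaf [12, 36, 12, 13, 37, 13, 2, 26, 2, 3, 27, 3] 1))) (.split (.inert [10] [23] (.leaf
  [12, 36, 12, 13, 37, 13] 4)) (.inert [10] [23] (.leaf [0, 24, 0, 1, 25, 1, 2, 26, 2, 3, 27, 3, 10] 1)) (.inert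
  [10] [23] (.leaf [12, 36, 12, 13, 37, 13, 2, 26, 2, 3, 27, 3, 10] 1))) (.split (.inert [10] [23] (.leaf [12,
  36, 12, 13, 37, 13] 7)) (.inert [10] [23] (.leaf [0, 24, 0, 1, 25, 1, 2, 26, 2, 3, 27, 3, 22] 1)) (.inert [10]
  [23] (.leaf [12, 36, 12, 13, 37, 13, 2, 26, 2, 3, 27, 3, 22] 1)))) (.split (.split (.inert [10] [23] (.leaf
  [12, 36, 12, 13, 37, 13] 3)) (.inert [10] [23] (.leaf [2, 26, 2, 1, 25, 1, 3, 27, 3, 13, 37, 13, 14, 38, 14,
  12, 6, 20] 1)) (.inert [10] [23] (.leaf [2, 26, 2, 1, 25, 1, 3, 27, 3, 1, 25, 1, 2, 26, 2, 12, 6, 20] 1)))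
  (.split (.inert [10] [23] (.leaf [15, 39, 15, 13, 37, 13] 8)) (.inert [10] [23] (.leaf [14, 2, 26, 2, 12, 36,
  12, 13, 37, 13, 2, 26, 2, 15, 39, 15, 5, 6, 10] 1)) (.inert [10] [23] (.leaf [2, 2, 26, 2, 12, 36, 12, 1, 25,
  1, 2, 26, 2, 15, 39, 15, 5, 6, 10] 1))) (.split (.inert [10] [23] (.leaf [12, 36, 12, 13, 37, 13] 10)) (.inert
  [10] [23] (.leaf [14, 2, 26, 2, 12, 36, 12, 13, 37, 13, 2, 26, 2, 15, 39, 15, 17, 6, 22] 1)) (.inert [10] [23]
  (.leaf [2, 2, 26, 2, 12, 36, 12, 1, 25, 1, 2, 26, 2, 15, 39, 15, 17, 6, 22] 1)))) (.split (.split (.inert [10]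
  [23] (.leaf [12, 36, 12, 13, 37, 13] 6)) (.inert [10] [23] (.leaf [2, 26, 2, 1, 25, 1, 3, 27, 3, 13, 37, 13,
  14, 38, 14, 12, 18, 8] 1)) (.inert [10] [23] (.leaf [2, 26, 2, 1, 25, 1, 3, 27, 3, 1, 25, 1, 2, 26, 2, 12, 18,
  8] 1))) (.split (.inert [10] [23] (.leaf [2, 26, 2, 12, 36, 12, 15, 39, 15, 13, 37, 13] 11)) (.inert [10] [23]
  (.leaf [2, 2, 26, 2, 12, 36, 12, 1, 25, 1, 2, 26, 2, 3, 27, 3, 17, 18, 10] 1)) (.inert [10] [23] (.leaf [14,
  2, 26, 2, 12, 36, 12, 13, 37, 13, 2, 26, 2, 3, 27, 3, 17, 18, 10] 1))) (.split (.inert [10] [23] (.leaf [3,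
  27, 3, 13, 37, 13] 9)) (.inert [10] [23] (.leaf [2, 2, 26, 2, 12, 36, 12, 1, 25, 1, 2, 26, 2, 3, 27, 3, 5, 18,
  22] 1)) (.inert [10] [23] (.leaf [14, 2, 26, 2, 12, 36, 12, 13, 37, 13, 2, 26, 2, 3, 27, 3, 5, 18, 22] 1)))))
  (.split (.split (.split (.inert [10] [23] (.leaf [12, 36, 12, 13, 37, 13] 2)) (.inert [10] [23] (.leaf [2, 26,
  2, 1, 25, 1, 3, 27, 3, 13, 37, 13, 14, 38, 14, 12, 5] 1)) (.inert [10] [23] (.leaf [3, 3, 27, 3, 12, 36, 12,
  1, 25, 1, 2, 26, 2, 15, 39, 15, 5] 1))) (.split (.inert [10] [23] (.leaf [14, 38, 14, 13, 37, 13] 8)) (.inert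
  [10] [23] (.leaf [15, 0, 24, 0, 1, 25, 1, 3, 27, 3, 1, 25, 1, 2, 26, 2, 5, 6, 10] 1)) (.inert [10] [23] (.leaf
  [3, 3, 27, 3, 12, 36, 12, 1, 25, 1, 2, 26, 2, 15, 39, 15, 5, 6, 10] 1))) (.split (.inert [10] [23] (.leaf [14,
  38, 14, 13, 37, 13] 9)) (.inert [10] [23] (.leaf [15, 0, 24, 0, 1, 25, 1, 3, 27, 3, 1, 25, 1, 2, 26, 2, 5, 18,
  22] 1)) (.inert [10] [23] (.leaf [3, 3, 27, 3, 12, 36, 12, 1, 25, 1, 2, 26, 2, 15, 39, 15, 5, 18, 22] 1))))
  (.split (.split (.inert [10] [23] (.leaf [12, 36, 12, 13, 37, 13] 8)) (.inert [10] [23] (.leaf [2, 26, 2, 1,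
  25, 1, 3, 27, 3, 13, 37, 13, 14, 38, 14, 12, 5, 6, 10] 1)) (.inert [10] [23] (.leaf [18, 2, 26, 2, 1, 25, 1,
  3, 27, 3, 1, 25, 1, 2, 26, 2, 5, 6, 8, 10, 11] 1))) (.split (.inert [10] [23] (.leaf [12, 36, 12, 13, 37, 13]
  12)) (.inert [10] [23] (.leaf [12, 36, 12, 13, 37, 13, 16, 17, 18, 9, 11] 8)) (.inert [10] [23] (.leaf [12,
  36, 12, 13, 37, 13, 4, 5, 6, 21, 11] 8))) (.split (.inert [10] [23] (.leaf [12, 14, 15, 8, 2, 26, 2, 3, 27, 3,
  12, 36, 12, 1, 25, 1, 2, 26, 2, 15, 39, 15, 5, 6, 22] 1)) (.inert [10] [23] (.leaf [12, 36, 12, 13, 37, 13,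
  16, 17, 18, 9, 11] 12)) (.inert [10] [23] (.leaf [12, 36, 12, 13, 37, 13, 4, 5, 6, 21, 11] 12)))) (.split
  (.split (.inert [10] [23] (.leaf [12, 36, 12, 13, 37, 13] 9)) (.inert [10] [23] (.leaf [2, 26, 2, 1, 25, 1, 3,
  27, 3, 13, 37, 13, 14, 38, 14, 12, 5, 18, 22] 1)) (.inert [10] [23] (.leaf [18, 2, 26, 2, 1, 25, 1, 3, 27, 3,
  1, 25, 1, 2, 26, 2, 5, 18, 20, 22, 23] 1))) (.split (.inert [10] [23] (.leaf [0, 2, 15, 10, 2, 26, 2, 3, 27,
  3, 12, 36, 12, 13, 37, 13, 2, 26, 2, 3, 27, 3, 5, 18, 10] 1)) (.inert [10] [23] (.leaf [14, 38, 14, 13, 37,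
  13, 4, 5, 18, 8, 11] 12)) (.inert [10] [23] (.leaf [14, 38, 14, 13, 37, 13, 16, 17, 6, 20, 11] 12))) (.split
  (.inert [10] [23] (.leaf [0, 2, 12, 36, 12, 14, 38, 14, 13, 37, 13, 15, 16, 5, 9, 11] 12)) (.inert [10] [23]
  (.leaf [12, 36, 12, 13, 37, 13, 4, 5, 18, 9, 23] 9)) (.inert [10] [23] (.leaf [12, 36, 12, 13, 37, 13, 16, 17,
  6, 21, 23] 9))))) (.split (.split (.split (.inert [10] [23] (.leaf [12, 36, 12, 13, 37, 13] 5)) (.inert [10]
  [23] (.leaf [2, 26, 2, 1, 25, 1, 3, 27, 3, 13, 37, 13, 14, 38, 14, 12, 17] 1)) (.inert [10] [23] (.leaf [15,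
  0, 24, 0, 1, 25, 1, 3, 27, 3, 1, 25, 1, 14, 38, 14, 17] 1))) (.split (.inert [10] [23] (.leaf [12, 36, 12, 13,
  37, 13] 11)) (.inert [10] [23] (.leaf [3, 3, 27, 3, 12, 36, 12, 1, 25, 1, 2, 26, 2, 3, 27, 3, 17, 18, 10] 1))
  (.inert [10] [23] (.leaf [15, 0, 24, 0, 1, 25, 1, 3, 27, 3, 1, 25, 1, 14, 38, 14, 17, 18, 10] 1))) (.split
  (.inert [10] [23] (.leaf [2, 26, 2, 3, 27, 3, 12, 36, 12, 13, 37, 13] 10)) (.inert [10] [23] (.leaf [3, 3, 27,
  3, 12, 36, 12, 1, 25, 1, 2, 26, 2, 3, 27, 3, 17, 6, 22] 1)) (.inert [10] [23] (.leaf [15, 0, 24, 0, 1, 25, 1,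
  3, 27, 3, 1, 25, 1, 14, 38, 14, 17, 6, 22] 1)))) (.split (.split (.inert [10] [23] (.leaf [15, 39, 15, 13, 37,
  13] 10)) (.inert [10] [23] (.leaf [2, 26, 2, 1, 25, 1, 3, 27, 3, 13, 37, 13, 14, 38, 14, 12, 17, 6, 22] 1))
  (.inert [10] [23] (.leaf [6, 2, 26, 2, 1, 25, 1, 3, 27, 3, 1, 25, 1, 2, 26, 2, 17, 6, 8, 22, 23] 1))) (.split
  (.inert [10] [23] (.leaf [0, 14, 3, 10, 2, 26, 2, 3, 27, 3, 12, 36, 12, 13, 37, 13, 2, 26, 2, 3, 27, 3, 17, 6,
  10] 1)) (.inert [10] [23] (.leaf [15, 39, 15, 13, 37, 13, 4, 17, 6, 7, 11] 12)) (.inert [10] [23] (.leaf [15,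
  39, 15, 13, 37, 13, 16, 5, 18, 19, 11] 12))) (.split (.inert [10] [23] (.leaf [0, 3, 12, 36, 12, 15, 39, 15,
  13, 37, 13, 14, 16, 6, 9, 11] 12)) (.inert [10] [23] (.leaf [12, 15, 3, 27, 3, 12, 36, 12, 13, 37, 13, 17, 6,
  9] 10)) (.inert [10] [23] (.leaf [0, 3, 12, 36, 12, 15, 39, 15, 13, 37, 13, 14, 5, 18] 10)))) (.split (.split
  (.inert [10] [23] (.leaf [2, 26, 2, 13, 37, 13] 11)) (.inert [10] [23] (.leaf [2, 26, 2, 1, 25, 1, 3, 27, 3,
  13, 37, 13, 14, 38, 14, 12, 17, 18, 10] 1)) (.inert [10] [23] (.leaf [6, 2, 26, 2, 1, 25, 1, 3, 27, 3, 1, 25,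
  1, 2, 26, 2, 17, 18, 20, 10, 11] 1))) (.split (.inert [10] [23] (.leaf [2, 3, 2, 26, 2, 3, 27, 3, 13, 37, 13,
  12, 5, 6, 8, 11] 12)) (.inert [10] [23] (.leaf [0, 14, 2, 26, 2, 12, 36, 12, 13, 37, 13, 5, 6, 9] 11)) (.inert
  [10] [23] (.leaf [12, 2, 12, 36, 12, 14, 38, 14, 13, 37, 13, 15, 17, 18] 11))) (.split (.inert [10] [23]
  (.leaf [12, 2, 3, 20, 2, 26, 2, 3, 27, 3, 12, 36, 12, 1, 25, 1, 2, 26, 2, 15, 39, 15, 17, 18, 22] 1)) (.inert
  [10] [23] (.leaf [2, 10, 2, 26, 2, 3, 27, 3, 12, 36, 12, 13, 37, 13, 3, 16, 17, 6, 20, 9, 23] 12)) (.inert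
  [10] [23] (.leaf [12, 22, 2, 26, 2, 3, 27, 3, 12, 36, 12, 13, 37, 13, 3, 16, 17, 18, 20, 9, 23] 12)))))))))
  (.inert [0] [4, 20] (.inert [2] [17, 21] (.inert [3] [18] (.split (.inert [4] [8] (.inert [5] [21] (.inert [7]
  [22] (.inert [10] [23] (.leaf [12, 36, 12, 13, 37, 13, 15, 39, 15, 12, 13, 4] 1))))) (.inert [4] [8] (.inert
  [5] [21] (.inert [7] [22] (.inert [10] [23] (.cube [11]))))) (.inert [4] [8] (.inert [5] [21] (.inert [7] [22]
  (.inert [10] [23] (.cube [23]))))))))) (.inert [0] [4, 8] (.inert [2] [17, 9] (.inert [3] [18] (.split (.inert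
  [4] [20] (.inert [5] [9] (.inert [7] [10] (.inert [10] [23] (.leaf [0, 24, 0, 1, 25, 1, 15, 39, 15, 0, 1]
  1))))) (.inert [4] [20] (.inert [5] [9] (.inert [7] [10] (.inert [10] [23] (.cube [23]))))) (.inert [4] [20]
  (.inert [5] [9] (.inert [7] [10] (.inert [10] [23] (.cube [11]))))))))))

/-- part of the tree -/
def t4 : T :=
  (.split (.inert [0] [4, 19] (.inert [2] [17] (.inert [3] [18, 21] (.inert [4] [7] (.split (.inert [6] [21]
  (.inert [8] [22] (.inert [10] [23] (.leaf [12, 36, 12, 13, 37, 13, 14, 38, 14, 12, 13, 4] 1)))) (.inert [6]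
  [21] (.inert [8] [22] (.inert [10] [23] (.cube [11])))) (.inert [6] [21] (.inert [8] [22] (.inert [10] [23]
  (.cube [23]))))))))) (.inert [0] [4, 19, 20, 22] (.inert [2] [17, 21] (.inert [3] [18, 21] (.inert [4] [7, 8,
  10] (.split (.inert [6] [21] (.cube [9])) (.inert [6] [21] (.cube [9, 11])) (.inert [6] [21] (.cube [9,
  23]))))))) (.inert [0] [4, 19, 8, 10] (.inert [2] [17, 9] (.inert [3] [18, 21] (.inert [4] [7, 20, 22] (.split
  (.inert [6] [21] (.cube [21])) (.inert [6] [21] (.cube [21, 11])) (.inert [6] [21] (.cube [21, 23]))))))))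

/-- part of the tree -/
def t5 : T :=
  (.split (.inert [0] [4, 7] (.inert [2] [17] (.inert [3] [18, 9] (.inert [4] [19] (.split (.inert [6] [9]
  (.inert [8] [10] (.inert [10] [23] (.leaf [0, 24, 0, 1, 25, 1, 14, 38, 14, 0, 1] 1)))) (.inert [6] [9] (.inert
  [8] [10] (.inert [10] [23] (.cube [23])))) (.inert [6] [9] (.inert [8] [10] (.inert [10] [23] (.cube
  [11]))))))))) (.inert [0] [4, 7, 20, 10] (.inert [2] [17, 21] (.inert [3] [18, 9] (.inert [4] [19, 8, 22]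
  (.split (.inert [6] [9] (.cube [21])) (.inert [6] [9] (.cube [21, 23])) (.inert [6] [9] (.cube [21, 11])))))))
  (.inert [0] [4, 7, 8, 22] (.inert [2] [17, 9] (.inert [3] [18, 9] (.inert [4] [19, 20, 10] (.split (.inert [6]
  [9] (.cube [9])) (.inert [6] [9] (.cube [9, 23])) (.inert [6] [9] (.cube [9, 11]))))))))

/-- part of the tree -/
def t6 : T :=
  (.split (.inert [0] [16] (.inert [2] [5] (.inert [3] [6] (.split (.split (.split (.split (.inert [10] [11]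
  (.leaf [0, 24, 0, 13, 37, 13] 0)) (.inert [10] [11] (.leaf [0, 24, 0, 13, 37, 13, 2, 26, 2, 3, 27, 3] 1))
  (.inert [10] [11] (.leaf [12, 36, 12, 1, 25, 1, 2, 26, 2, 3, 27, 3] 1))) (.split (.inert [10] [11] (.leaf [0,
  24, 0, 13, 37, 13] 7)) (.inert [10] [11] (.leaf [0, 24, 0, 13, 37, 13, 2, 26, 2, 3, 27, 3, 22] 1)) (.inert
  [10] [11] (.leaf [12, 36, 12, 1, 25, 1, 2, 26, 2, 3, 27, 3, 22] 1))) (.split (.inert [10] [11] (.leaf [0, 24,
  0, 13, 37, 13] 4)) (.inert [10] [11] (.leaf [0, 24, 0, 13, 37, 13, 2, 26, 2, 3, 27, 3, 10] 1)) (.inert [10]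
  [11] (.leaf [12, 36, 12, 1, 25, 1, 2, 26, 2, 3, 27, 3, 10] 1)))) (.split (.split (.inert [10] [11] (.leaf [15,
  39, 15, 13, 37, 13] 6)) (.inert [10] [11] (.leaf [2, 26, 2, 1, 25, 1, 3, 27, 3, 13, 37, 13, 2, 26, 2, 12, 18,
  8] 1)) (.inert [10] [11] (.leaf [2, 26, 2, 1, 25, 1, 3, 27, 3, 1, 25, 1, 14, 38, 14, 12, 18, 8] 1))) (.split
  (.inert [10] [11] (.leaf [15, 39, 15, 13, 37, 13] 9)) (.inert [10] [11] (.leaf [14, 2, 26, 2, 12, 36, 12, 1,
  25, 1, 2, 26, 2, 15, 39, 15, 5, 18, 22] 1)) (.inert [10] [11] (.leaf [2, 2, 26, 2, 12, 36, 12, 13, 37, 13, 2,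
  26, 2, 15, 39, 15, 5, 18, 22] 1))) (.split (.inert [10] [11] (.leaf [2, 26, 2, 3, 27, 3, 12, 36, 12, 13, 37,
  13] 11)) (.inert [10] [11] (.leaf [14, 2, 26, 2, 12, 36, 12, 1, 25, 1, 2, 26, 2, 15, 39, 15, 17, 18, 10] 1))
  (.inert [10] [11] (.leaf [2, 2, 26, 2, 12, 36, 12, 13, 37, 13, 2, 26, 2, 15, 39, 15, 17, 18, 10] 1)))) (.split
  (.split (.inert [10] [11] (.leaf [0, 24, 0, 13, 37, 13] 3)) (.inert [10] [11] (.leaf [2, 26, 2, 1, 25, 1, 3,
  27, 3, 13, 37, 13, 2, 26, 2, 12, 6, 20] 1)) (.inert [10] [11] (.leaf [2, 26, 2, 1, 25, 1, 3, 27, 3, 1, 25, 1,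
  14, 38, 14, 12, 6, 20] 1))) (.split (.inert [10] [11] (.leaf [0, 24, 0, 13, 37, 13] 10)) (.inert [10] [11]
  (.leaf [2, 2, 26, 2, 12, 36, 12, 13, 37, 13, 2, 26, 2, 3, 27, 3, 17, 6, 22] 1)) (.inert [10] [11] (.leaf [14,
  2, 26, 2, 12, 36, 12, 1, 25, 1, 2, 26, 2, 3, 27, 3, 17, 6, 22] 1))) (.split (.inert [10] [11] (.leaf [3, 27,
  3, 13, 37, 13] 8)) (.inert [10] [11] (.leaf [2, 2, 26, 2, 12, 36, 12, 13, 37, 13, 2, 26, 2, 3, 27, 3, 5, 6,
  10] 1)) (.inert [10] [11] (.leaf [14, 2, 26, 2, 12, 36, 12, 1, 25, 1, 2, 26, 2, 3, 27, 3, 5, 6, 10] 1)))))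
  (.split (.split (.split (.inert [10] [11] (.leaf [14, 38, 14, 13, 37, 13] 5)) (.inert [10] [11] (.leaf [15, 3,
  27, 3, 12, 36, 12, 1, 25, 1, 2, 26, 2, 15, 39, 15, 17] 1)) (.inert [10] [11] (.leaf [6, 2, 26, 2, 1, 25, 1, 3,
  27, 3, 1, 25, 1, 14, 38, 14, 17] 1))) (.split (.inert [10] [11] (.leaf [2, 26, 2, 12, 36, 12, 15, 39, 15, 13,
  37, 13] 10)) (.inert [10] [11] (.leaf [15, 3, 27, 3, 12, 36, 12, 1, 25, 1, 2, 26, 2, 15, 39, 15, 17, 6, 22]
  1)) (.inert [10] [11] (.leaf [3, 0, 24, 0, 1, 25, 1, 3, 27, 3, 1, 25, 1, 2, 26, 2, 17, 6, 22] 1))) (.split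
  (.inert [10] [11] (.leaf [0, 24, 0, 13, 37, 13] 11)) (.inert [10] [11] (.leaf [15, 3, 27, 3, 12, 36, 12, 1,
  25, 1, 2, 26, 2, 15, 39, 15, 17, 18, 10] 1)) (.inert [10] [11] (.leaf [3, 0, 24, 0, 1, 25, 1, 3, 27, 3, 1, 25,
  1, 2, 26, 2, 17, 18, 10] 1)))) (.split (.split (.inert [10] [11] (.leaf [14, 38, 14, 13, 37, 13] 11)) (.inert
  [10] [11] (.leaf [2, 26, 2, 1, 25, 1, 3, 27, 3, 13, 37, 13, 2, 26, 2, 12, 17, 18, 10] 1)) (.inert [10] [11]
  (.leaf [6, 2, 26, 2, 1, 25, 1, 3, 27, 3, 1, 25, 1, 14, 38, 14, 17, 18, 20, 10, 11] 1))) (.split (.inert [10]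
  [11] (.leaf [12, 2, 3, 22, 2, 26, 2, 3, 27, 3, 12, 36, 12, 13, 37, 13, 2, 26, 2, 3, 27, 3, 17, 18, 22] 1))
  (.inert [10] [11] (.leaf [12, 2, 26, 2, 12, 36, 12, 15, 39, 15, 13, 37, 13, 15, 16, 17, 18, 8, 9] 12)) (.inert
  [10] [11] (.leaf [2, 2, 26, 2, 12, 36, 12, 15, 39, 15, 13, 37, 13, 16, 17, 6, 9, 11] 12))) (.split (.inert
  [10] [11] (.leaf [2, 3, 2, 26, 2, 15, 39, 15, 13, 37, 13, 5, 6] 12)) (.inert [10] [11] (.leaf [12, 2, 2, 26,
  2, 12, 36, 12, 13, 37, 13, 17, 18, 21] 11)) (.inert [10] [11] (.leaf [0, 14, 12, 36, 12, 14, 38, 14, 13, 37,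
  13, 15, 5, 6] 11)))) (.split (.split (.inert [10] [11] (.leaf [3, 27, 3, 13, 37, 13] 10)) (.inert [10] [11]
  (.leaf [2, 26, 2, 1, 25, 1, 3, 27, 3, 13, 37, 13, 2, 26, 2, 12, 17, 6, 22] 1)) (.inert [10] [11] (.leaf [6, 2,
  26, 2, 1, 25, 1, 3, 27, 3, 1, 25, 1, 14, 38, 14, 17, 6, 8, 22, 23] 1))) (.split (.inert [10] [11] (.leaf [0,
  3, 3, 27, 3, 12, 36, 12, 13, 37, 13, 16, 6] 12)) (.inert [10] [11] (.leaf [0, 3, 3, 27, 3, 12, 36, 12, 13, 37,
  13, 5, 18, 21] 10)) (.inert [10] [11] (.leaf [12, 15, 12, 36, 12, 15, 39, 15, 13, 37, 13, 14, 17, 6] 10)))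
  (.split (.inert [10] [11] (.leaf [0, 14, 3, 20, 2, 26, 2, 3, 27, 3, 12, 36, 12, 1, 25, 1, 2, 26, 2, 15, 39,
  15, 17, 6, 10] 1)) (.inert [10] [11] (.leaf [3, 27, 3, 13, 37, 13, 16, 5, 18, 21] 12)) (.inert [10] [11]
  (.leaf [3, 27, 3, 13, 37, 13, 4, 17, 6, 9] 12))))) (.split (.split (.split (.inert [10] [11] (.leaf [0, 24, 0,
  13, 37, 13] 2)) (.inert [10] [11] (.leaf [3, 0, 24, 0, 1, 25, 1, 3, 27, 3, 1, 25, 1, 14, 38, 14, 5] 1))
  (.inert [10] [11] (.leaf [18, 2, 26, 2, 1, 25, 1, 3, 27, 3, 1, 25, 1, 14, 38, 14, 5] 1))) (.split (.inert [10]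
  [11] (.leaf [2, 26, 2, 13, 37, 13] 9)) (.inert [10] [11] (.leaf [3, 0, 24, 0, 1, 25, 1, 3, 27, 3, 1, 25, 1,
  14, 38, 14, 5, 18, 22] 1)) (.inert [10] [11] (.leaf [15, 3, 27, 3, 12, 36, 12, 1, 25, 1, 2, 26, 2, 3, 27, 3,
  5, 18, 22] 1))) (.split (.inert [10] [11] (.leaf [2, 26, 2, 13, 37, 13] 8)) (.inert [10] [11] (.leaf [3, 0,
  24, 0, 1, 25, 1, 3, 27, 3, 1, 25, 1, 14, 38, 14, 5, 6, 10] 1)) (.inert [10] [11] (.leaf [15, 3, 27, 3, 12, 36,
  12, 1, 25, 1, 2, 26, 2, 3, 27, 3, 5, 6, 10] 1)))) (.split (.split (.inert [10] [11] (.leaf [0, 24, 0, 13, 37,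
  13] 9)) (.inert [10] [11] (.leaf [2, 26, 2, 1, 25, 1, 3, 27, 3, 13, 37, 13, 2, 26, 2, 12, 5, 18, 22] 1))
  (.inert [10] [11] (.leaf [18, 2, 26, 2, 1, 25, 1, 3, 27, 3, 1, 25, 1, 14, 38, 14, 5, 18, 20, 22, 23] 1)))
  (.split (.inert [10] [11] (.leaf [0, 2, 2, 26, 2, 12, 36, 12, 13, 37, 13, 16, 5] 12)) (.inert [10] [11] (.leaf
  [15, 39, 15, 13, 37, 13, 4, 17, 18, 7, 23] 9)) (.inert [10] [11] (.leaf [15, 39, 15, 13, 37, 13, 16, 5, 6, 19,
  23] 9))) (.split (.inert [10] [11] (.leaf [0, 2, 15, 8, 2, 26, 2, 3, 27, 3, 12, 36, 12, 1, 25, 1, 2, 26, 2,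
  15, 39, 15, 5, 18, 10] 1)) (.inert [10] [11] (.leaf [2, 26, 2, 13, 37, 13, 16, 17, 6, 21] 12)) (.inert [10]
  [11] (.leaf [2, 26, 2, 13, 37, 13, 4, 5, 18, 9] 12)))) (.split (.split (.inert [10] [11] (.leaf [0, 24, 0, 13,
  37, 13] 8)) (.inert [10] [11] (.leaf [2, 26, 2, 1, 25, 1, 3, 27, 3, 13, 37, 13, 2, 26, 2, 12, 5, 6, 10] 1))
  (.inert [10] [11] (.leaf [18, 2, 26, 2, 1, 25, 1, 3, 27, 3, 1, 25, 1, 14, 38, 14, 5, 6, 8, 10, 11] 1)))
  (.split (.inert [10] [11] (.leaf [12, 14, 15, 22, 2, 26, 2, 3, 27, 3, 12, 36, 12, 13, 37, 13, 2, 26, 2, 3, 27,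
  3, 5, 6, 22] 1)) (.inert [10] [11] (.leaf [0, 24, 0, 13, 37, 13, 4, 5, 6, 21] 12)) (.inert [10] [11] (.leaf
  [0, 24, 0, 13, 37, 13, 16, 17, 18, 9] 12))) (.split (.inert [10] [11] (.leaf [0, 24, 0, 13, 37, 13] 12))
  (.inert [10] [11] (.leaf [0, 24, 0, 13, 37, 13, 4, 5, 6, 21] 8)) (.inert [10] [11] (.leaf [0, 24, 0, 13, 37,
  13, 16, 17, 18, 9] 8))))))))) (.inert [0] [16, 8] (.inert [2] [5, 9] (.inert [3] [6] (.split (.inert [4] [8]
  (.inert [5] [21] (.inert [7] [22] (.inert [10] [11] (.leaf [0, 24, 0, 13, 37, 13, 15, 39, 15] 1))))) (.inert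
  [4] [8] (.inert [5] [21] (.inert [7] [22] (.inert [10] [11] (.cube [23]))))) (.inert [4] [8] (.inert [5] [21]
  (.inert [7] [22] (.inert [10] [11] (.cube [11]))))))))) (.inert [0] [16, 20] (.inert [2] [5, 21] (.inert [3]
  [6] (.split (.inert [4] [20] (.inert [5] [9] (.inert [7] [10] (.inert [10] [11] (.leaf [12, 36, 12, 1, 25, 1,
  15, 39, 15] 1))))) (.inert [4] [20] (.inert [5] [9] (.inert [7] [10] (.inert [10] [11] (.cube [11])))))
  (.inert [4] [20] (.inert [5] [9] (.inert [7] [10] (.inert [10] [11] (.cube [23]))))))))))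

/-- part of the tree -/
def t7 : T :=
  (.split (.inert [0] [16, 7] (.inert [2] [5] (.inert [3] [6, 9] (.inert [4] [7] (.split (.inert [6] [21]
  (.inert [8] [22] (.inert [10] [11] (.leaf [0, 24, 0, 13, 37, 13, 14, 38, 14] 1)))) (.inert [6] [21] (.inert
  [8] [22] (.inert [10] [11] (.cube [23])))) (.inert [6] [21] (.inert [8] [22] (.inert [10] [11] (.cube
  [11]))))))))) (.inert [0] [16, 7, 8, 10] (.inert [2] [5, 9] (.inert [3] [6, 9] (.inert [4] [7, 8, 10] (.split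
  (.inert [6] [21] (.cube [21])) (.inert [6] [21] (.cube [21, 23])) (.inert [6] [21] (.cube [21, 11])))))))
  (.inert [0] [16, 7, 20, 22] (.inert [2] [5, 21] (.inert [3] [6, 9] (.inert [4] [7, 20, 22] (.split (.inert [6]
  [21] (.cube [9])) (.inert [6] [21] (.cube [9, 23])) (.inert [6] [21] (.cube [9, 11]))))))))

/-- part of the tree -/
def t8 : T :=
  (.split (.inert [0] [16, 19] (.inert [2] [5] (.inert [3] [6, 21] (.inert [4] [19] (.split (.inert [6] [9]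
  (.inert [8] [10] (.inert [10] [11] (.leaf [12, 36, 12, 1, 25, 1, 14, 38, 14] 1)))) (.inert [6] [9] (.inert [8]
  [10] (.inert [10] [11] (.cube [11])))) (.inert [6] [9] (.inert [8] [10] (.inert [10] [11] (.cube [23])))))))))
  (.inert [0] [16, 19, 8, 22] (.inert [2] [5, 9] (.inert [3] [6, 21] (.inert [4] [19, 8, 22] (.split (.inert [6]
  [9] (.cube [9])) (.inert [6] [9] (.cube [9, 11])) (.inert [6] [9] (.cube [9, 23]))))))) (.inert [0] [16, 19,
  20, 10] (.inert [2] [5, 21] (.inert [3] [6, 21] (.inert [4] [19, 20, 10] (.split (.inert [6] [9] (.cube [21]))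
  (.inert [6] [9] (.cube [21, 11])) (.inert [6] [9] (.cube [21, 23]))))))))

/-- part of the tree -/
def t9 : T :=
  (.split (.inert [1] [16] (.split (.split (.inert [5] [19] (.inert [6] [20] (.split (.inert [9] [22] (.split
  (.leaf [] 0) (.leaf [] 4) (.leaf [] 7))) (.inert [9] [22] (.inert [4] [23] (.leaf [2, 26, 2, 15, 39, 15] 1)))
  (.inert [9] [22] (.inert [4] [11] (.leaf [2, 26, 2, 3, 27, 3] 1)))))) (.inert [5] [19, 23] (.inert [6] [20]
  (.inert [2] [9] (.inert [9] [22] (.inert [7] [23] (.leaf [3, 27, 3] 1)))))) (.inert [5] [19, 11] (.inert [6]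
  [20] (.inert [2] [21] (.inert [9] [22] (.inert [7] [11] (.leaf [15, 39, 15] 1))))))) (.split (.inert [5] [19]
  (.inert [6] [20, 23] (.inert [3] [9] (.inert [9] [22] (.inert [8] [23] (.leaf [2, 26, 2] 1)))))) (.inert [5]
  [19, 23] (.inert [6] [20, 23] (.inert [3] [9] (.inert [9] [22] (.inert [8] [23] (.cube [11])))))) (.inert [5]
  [19, 11] (.inert [6] [20, 23] (.inert [3] [9] (.inert [9] [22] (.inert [8] [23] (.cube [23]))))))) (.split
  (.inert [5] [19] (.inert [6] [20, 11] (.inert [3] [21] (.inert [9] [22] (.inert [8] [11] (.leaf [14, 38, 14]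
  1)))))) (.inert [5] [19, 23] (.inert [6] [20, 11] (.inert [3] [21] (.inert [9] [22] (.inert [8] [11] (.cube
  [23])))))) (.inert [5] [19, 11] (.inert [6] [20, 11] (.inert [3] [21] (.inert [9] [22] (.inert [8] [11] (.cube
  [11]))))))))) (.inert [1] [16, 6, 8] (.split (.split (.inert [5] [19, 21, 22] (.inert [6] [20] (.split (.inert
  [9] [22] (.split (.leaf [] 3) (.leaf [1, 25, 1, 0, 24, 0, 3, 27, 3, 1, 25, 1] 8) (.leaf [] 10))) (.inert [9]
  [22] (.inert [4, 6] [23] (.leaf [5, 2, 26, 2, 13, 37, 13, 15, 39, 15, 6] 1))) (.inert [9] [22] (.inert [4, 6]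
  [11] (.leaf [17, 2, 26, 2, 1, 25, 1, 3, 27, 3, 6] 1)))))) (.inert [5] [19, 21, 22, 23] (.inert [6] [20]
  (.inert [2] [9] (.inert [9] [22] (.inert [7, 21] [23] (.leaf [13, 1, 25, 1, 3, 27, 3, 6] 1)))))) (.inert [5]
  [19, 21, 22, 11] (.inert [6] [20] (.inert [2] [21] (.inert [9] [22] (.inert [7, 21] [11] (.leaf [1, 13, 37,
  13, 15, 39, 15, 6] 1))))))) (.split (.inert [5] [19, 21, 22] (.inert [6] [20, 23] (.inert [3] [9] (.inert [9]
  [22] (.cube [22]))))) (.inert [5] [19, 21, 22, 23] (.inert [6] [20, 23] (.inert [3] [9] (.inert [9] [22]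
  (.cube [22, 11]))))) (.inert [5] [19, 21, 22, 11] (.inert [6] [20, 23] (.inert [3] [9] (.inert [9] [22] (.cube
  [22, 23])))))) (.split (.inert [5] [19, 21, 22] (.inert [6] [20, 11] (.inert [3] [21] (.inert [9] [22] (.cube
  [10]))))) (.inert [5] [19, 21, 22, 23] (.inert [6] [20, 11] (.inert [3] [21] (.inert [9] [22] (.cube [10,
  23]))))) (.inert [5] [19, 21, 22, 11] (.inert [6] [20, 11] (.inert [3] [21] (.inert [9] [22] (.cube [10,
  11])))))))) (.inert [1] [16, 18, 20] (.split (.split (.inert [5] [19, 9, 10] (.inert [6] [20] (.split (.inert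
  [9] [22] (.split (.leaf [] 6) (.leaf [1, 25, 1, 2, 26, 2, 3, 27, 3, 1, 25, 1] 11) (.leaf [1, 25, 1, 12, 36,
  12, 15, 39, 15, 13, 37, 13] 9))) (.inert [9] [22] (.inert [4, 18] [23] (.leaf [17, 2, 26, 2, 1, 25, 1, 15, 39,
  15, 18] 1))) (.inert [9] [22] (.inert [4, 18] [11] (.leaf [5, 2, 26, 2, 13, 37, 13, 3, 27, 3, 18] 1))))))
  (.inert [5] [19, 9, 10, 23] (.inert [6] [20] (.inert [2] [9] (.inert [9] [22] (.inert [7, 9] [23] (.leaf [1,
  13, 37, 13, 3, 27, 3, 18] 1)))))) (.inert [5] [19, 9, 10, 11] (.inert [6] [20] (.inert [2] [21] (.inert [9]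
  [22] (.inert [7, 9] [11] (.leaf [13, 1, 25, 1, 15, 39, 15, 18] 1))))))) (.split (.inert [5] [19, 9, 10]
  (.inert [6] [20, 23] (.inert [3] [9] (.inert [9] [22] (.cube [10]))))) (.inert [5] [19, 9, 10, 23] (.inert [6]
  [20, 23] (.inert [3] [9] (.inert [9] [22] (.cube [10, 11]))))) (.inert [5] [19, 9, 10, 11] (.inert [6] [20,
  23] (.inert [3] [9] (.inert [9] [22] (.cube [10, 23])))))) (.split (.inert [5] [19, 9, 10] (.inert [6] [20,
  11] (.inert [3] [21] (.inert [9] [22] (.cube [22]))))) (.inert [5] [19, 9, 10, 23] (.inert [6] [20, 11]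
  (.inert [3] [21] (.inert [9] [22] (.cube [22, 23]))))) (.inert [5] [19, 9, 10, 11] (.inert [6] [20, 11]
  (.inert [3] [21] (.inert [9] [22] (.cube [22, 11])))))))))

/-- part of the tree -/
def t10 : T :=
  (.split (.inert [1] [16, 5, 7] (.split (.split (.inert [5] [19] (.inert [6] [20, 21, 22] (.split (.inert [9]
  [22] (.split (.leaf [] 2) (.leaf [1, 25, 1, 0, 24, 0, 2, 26, 2, 1, 25, 1] 8) (.leaf [1, 25, 1, 0, 24, 0, 2,
  26, 2, 1, 25, 1] 9))) (.inert [9] [22] (.inert [4, 5] [23] (.leaf [6, 3, 27, 3, 13, 37, 13, 14, 38, 14, 5]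
  1))) (.inert [9] [22] (.inert [4, 5] [11] (.leaf [18, 3, 27, 3, 1, 25, 1, 2, 26, 2, 5] 1)))))) (.inert [5]
  [19, 23] (.inert [6] [20, 21, 22] (.inert [2] [9] (.inert [9] [22] (.cube [22]))))) (.inert [5] [19, 11]
  (.inert [6] [20, 21, 22] (.inert [2] [21] (.inert [9] [22] (.cube [10])))))) (.split (.inert [5] [19] (.inert
  [6] [20, 21, 22, 23] (.inert [3] [9] (.inert [9] [22] (.inert [8, 21] [23] (.leaf [13, 1, 25, 1, 2, 26, 2, 5]
  1)))))) (.inert [5] [19, 23] (.inert [6] [20, 21, 22, 23] (.inert [3] [9] (.inert [9] [22] (.cube [22,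
  11]))))) (.inert [5] [19, 11] (.inert [6] [20, 21, 22, 23] (.inert [3] [9] (.inert [9] [22] (.cube [10,
  23])))))) (.split (.inert [5] [19] (.inert [6] [20, 21, 22, 11] (.inert [3] [21] (.inert [9] [22] (.inert [8,
  21] [11] (.leaf [1, 13, 37, 13, 14, 38, 14, 5] 1)))))) (.inert [5] [19, 23] (.inert [6] [20, 21, 22, 11]
  (.inert [3] [21] (.inert [9] [22] (.cube [22, 23]))))) (.inert [5] [19, 11] (.inert [6] [20, 21, 22, 11]
  (.inert [3] [21] (.inert [9] [22] (.cube [10, 11])))))))) (.inert [1] [16, 5, 6, 7, 8, 9, 10, 23] (.split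
  (.split (.inert [5] [19, 21, 22] (.inert [6] [20, 21, 22] (.inert [4, 5, 6] [9, 22, 11] (.inert [9] [22]
  (.split (.leaf [] 8) (.leaf [] 12) (.leaf [16, 17, 18, 23, 1, 25, 1, 0, 24, 0, 2, 26, 2, 1, 25, 1, 3, 27, 3,
  1, 25, 1, 2, 26, 2, 0, 5, 6, 10] 1)))))) (.inert [5] [19, 21, 22, 23] (.inert [6] [20, 21, 22] (.inert [4, 5,
  6] [9, 22, 11] (.inert [9] [22] (.cube [22]))))) (.inert [5] [19, 21, 22, 11] (.inert [6] [20, 21, 22] (.inert
  [4, 5, 6] [9, 22, 11] (.inert [9] [22] (.cube [10])))))) (.split (.inert [5] [19, 21, 22] (.inert [6] [20, 21,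
  22, 23] (.inert [4, 5, 6] [9, 22, 11] (.inert [9] [22] (.cube [22]))))) (.inert [5] [19, 21, 22, 23] (.inert
  [6] [20, 21, 22, 23] (.inert [4, 5, 6] [9, 22, 11] (.inert [9] [22] (.cube [10, 11]))))) (.inert [5] [19, 21,
  22, 11] (.inert [6] [20, 21, 22, 23] (.inert [4, 5, 6] [9, 22, 11] (.inert [9] [22] (.inert [8, 21] [23]
  (.cube [23]))))))) (.split (.inert [5] [19, 21, 22] (.inert [6] [20, 21, 22, 11] (.inert [4, 5, 6] [9, 22, 11]
  (.inert [9] [22] (.cube [10]))))) (.inert [5] [19, 21, 22, 23] (.inert [6] [20, 21, 22, 11] (.inert [4, 5, 6]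
  [9, 22, 11] (.inert [9] [22] (.inert [8, 21] [11] (.cube [23])))))) (.inert [5] [19, 21, 22, 11] (.inert [6]
  [20, 21, 22, 11] (.inert [4, 5, 6] [9, 22, 11] (.inert [9] [22] (.cube [22, 11])))))))) (.inert [1] [16, 5,
  18, 7, 20, 21, 22, 11] (.split (.split (.inert [5] [19, 9, 10] (.inert [6] [20, 21, 22] (.inert [4, 5, 18]
  [21, 10, 23] (.inert [9] [22] (.split (.leaf [] 9) (.leaf [4, 5, 18, 11, 1, 25, 1, 0, 24, 0, 2, 26, 2, 1, 25,
  1, 3, 27, 3, 1, 25, 1, 2, 26, 2, 0, 5, 18, 22] 1) (.leaf [16, 17, 1, 25, 1, 0, 24, 0, 2, 26, 2, 1, 25, 1, 3,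
  16, 17, 20, 9, 23] 12)))))) (.inert [5] [19, 9, 10, 23] (.inert [6] [20, 21, 22] (.inert [4, 5, 18] [21, 10,
  23] (.inert [9] [22] (.cube [22]))))) (.inert [5] [19, 9, 10, 11] (.inert [6] [20, 21, 22] (.inert [4, 5, 18]
  [21, 10, 23] (.inert [9] [22] (.cube [10])))))) (.split (.inert [5] [19, 9, 10] (.inert [6] [20, 21, 22, 23]
  (.inert [4, 5, 18] [21, 10, 23] (.inert [9] [22] (.cube [10]))))) (.inert [5] [19, 9, 10, 23] (.inert [6] [20,
  21, 22, 23] (.inert [4, 5, 18] [21, 10, 23] (.inert [9] [22] (.inert [8, 21] [23] (.cube [11])))))) (.inert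
  [5] [19, 9, 10, 11] (.inert [6] [20, 21, 22, 23] (.inert [4, 5, 18] [21, 10, 23] (.inert [9] [22] (.cube [22,
  23])))))) (.split (.inert [5] [19, 9, 10] (.inert [6] [20, 21, 22, 11] (.inert [4, 5, 18] [21, 10, 23] (.inert
  [9] [22] (.cube [22]))))) (.inert [5] [19, 9, 10, 23] (.inert [6] [20, 21, 22, 11] (.inert [4, 5, 18] [21, 10,
  23] (.inert [9] [22] (.cube [10, 23]))))) (.inert [5] [19, 9, 10, 11] (.inert [6] [20, 21, 22, 11] (.inert [4,
  5, 18] [21, 10, 23] (.inert [9] [22] (.inert [8, 21] [11] (.cube [11]))))))))))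

/-- part of the tree -/
def t11 : T :=
  (.split (.inert [1] [16, 17, 19] (.split (.split (.inert [5] [19] (.inert [6] [20, 9, 10] (.split (.inert [9]
  [22] (.split (.leaf [] 5) (.leaf [] 11) (.leaf [1, 25, 1, 2, 26, 2, 3, 27, 3, 13, 37, 13] 10))) (.inert [9]
  [22] (.inert [4, 17] [23] (.leaf [18, 3, 27, 3, 1, 25, 1, 14, 38, 14, 17] 1))) (.inert [9] [22] (.inert [4,
  17] [11] (.leaf [6, 3, 27, 3, 13, 37, 13, 2, 26, 2, 17] 1)))))) (.inert [5] [19, 23] (.inert [6] [20, 9, 10]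
  (.inert [2] [9] (.inert [9] [22] (.cube [10]))))) (.inert [5] [19, 11] (.inert [6] [20, 9, 10] (.inert [2]
  [21] (.inert [9] [22] (.cube [22])))))) (.split (.inert [5] [19] (.inert [6] [20, 9, 10, 23] (.inert [3] [9]
  (.inert [9] [22] (.inert [8, 9] [23] (.leaf [1, 13, 37, 13, 2, 26, 2, 17] 1)))))) (.inert [5] [19, 23] (.inert
  [6] [20, 9, 10, 23] (.inert [3] [9] (.inert [9] [22] (.cube [10, 11]))))) (.inert [5] [19, 11] (.inert [6]
  [20, 9, 10, 23] (.inert [3] [9] (.inert [9] [22] (.cube [22, 23])))))) (.split (.inert [5] [19] (.inert [6]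
  [20, 9, 10, 11] (.inert [3] [21] (.inert [9] [22] (.inert [8, 9] [11] (.leaf [13, 1, 25, 1, 14, 38, 14, 17]
  1)))))) (.inert [5] [19, 23] (.inert [6] [20, 9, 10, 11] (.inert [3] [21] (.inert [9] [22] (.cube [10,
  23]))))) (.inert [5] [19, 11] (.inert [6] [20, 9, 10, 11] (.inert [3] [21] (.inert [9] [22] (.cube [22,
  11])))))))) (.inert [1] [16, 17, 6, 19, 8, 21, 22, 11] (.split (.split (.inert [5] [19, 21, 22] (.inert [6]
  [20, 9, 10] (.inert [4, 17, 6] [21, 10, 23] (.inert [9] [22] (.split (.leaf [1, 25, 1, 0, 24, 0, 3, 27, 3, 1,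
  25, 1] 10) (.leaf [4, 17, 6, 11, 1, 25, 1, 0, 24, 0, 2, 26, 2, 1, 25, 1, 3, 27, 3, 1, 25, 1, 2, 26, 2, 0, 17,
  6, 22] 1) (.leaf [16, 18, 1, 25, 1, 0, 24, 0, 3, 27, 3, 1, 25, 1, 2, 16, 18, 19, 9, 23] 12)))))) (.inert [5]
  [19, 21, 22, 23] (.inert [6] [20, 9, 10] (.inert [4, 17, 6] [21, 10, 23] (.inert [9] [22] (.cube [10])))))
  (.inert [5] [19, 21, 22, 11] (.inert [6] [20, 9, 10] (.inert [4, 17, 6] [21, 10, 23] (.inert [9] [22] (.cube
  [22])))))) (.split (.inert [5] [19, 21, 22] (.inert [6] [20, 9, 10, 23] (.inert [4, 17, 6] [21, 10, 23]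
  (.inert [9] [22] (.cube [22]))))) (.inert [5] [19, 21, 22, 23] (.inert [6] [20, 9, 10, 23] (.inert [4, 17, 6]
  [21, 10, 23] (.inert [9] [22] (.inert [8, 9] [23] (.cube [11])))))) (.inert [5] [19, 21, 22, 11] (.inert [6]
  [20, 9, 10, 23] (.inert [4, 17, 6] [21, 10, 23] (.inert [9] [22] (.cube [10, 23])))))) (.split (.inert [5]
  [19, 21, 22] (.inert [6] [20, 9, 10, 11] (.inert [4, 17, 6] [21, 10, 23] (.inert [9] [22] (.cube [10])))))
  (.inert [5] [19, 21, 22, 23] (.inert [6] [20, 9, 10, 11] (.inert [4, 17, 6] [21, 10, 23] (.inert [9] [22]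
  (.cube [22, 23]))))) (.inert [5] [19, 21, 22, 11] (.inert [6] [20, 9, 10, 11] (.inert [4, 17, 6] [21, 10, 23]
  (.inert [9] [22] (.inert [8, 9] [11] (.cube [11]))))))))) (.inert [1] [16, 17, 18, 19, 20, 9, 10, 23] (.split
  (.split (.inert [5] [19, 9, 10] (.inert [6] [20, 9, 10] (.inert [4, 17, 18] [9, 22, 11] (.inert [9] [22]
  (.split (.leaf [1, 25, 1, 12, 36, 12, 14, 38, 14, 13, 37, 13] 11) (.leaf [17, 6, 21, 1, 25, 1, 2, 26, 2, 3,
  27, 3, 13, 37, 13, 5, 18, 8, 11] 12) (.leaf [16, 5, 6, 23, 1, 25, 1, 0, 24, 0, 2, 26, 2, 1, 25, 1, 3, 27, 3,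
  1, 25, 1, 2, 26, 2, 0, 17, 18, 10] 1)))))) (.inert [5] [19, 9, 10, 23] (.inert [6] [20, 9, 10] (.inert [4, 17,
  18] [9, 22, 11] (.inert [9] [22] (.cube [10]))))) (.inert [5] [19, 9, 10, 11] (.inert [6] [20, 9, 10] (.inert
  [4, 17, 18] [9, 22, 11] (.inert [9] [22] (.cube [22])))))) (.split (.inert [5] [19, 9, 10] (.inert [6] [20, 9,
  10, 23] (.inert [4, 17, 18] [9, 22, 11] (.inert [9] [22] (.cube [10]))))) (.inert [5] [19, 9, 10, 23] (.inert
  [6] [20, 9, 10, 23] (.inert [4, 17, 18] [9, 22, 11] (.inert [9] [22] (.cube [22, 11]))))) (.inert [5] [19, 9,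
  10, 11] (.inert [6] [20, 9, 10, 23] (.inert [4, 17, 18] [9, 22, 11] (.inert [9] [22] (.inert [8, 9] [23]
  (.cube [23]))))))) (.split (.inert [5] [19, 9, 10] (.inert [6] [20, 9, 10, 11] (.inert [4, 17, 18] [9, 22, 11]
  (.inert [9] [22] (.cube [22]))))) (.inert [5] [19, 9, 10, 23] (.inert [6] [20, 9, 10, 11] (.inert [4, 17, 18]
  [9, 22, 11] (.inert [9] [22] (.inert [8, 9] [11] (.cube [23])))))) (.inert [5] [19, 9, 10, 11] (.inert [6]
  [20, 9, 10, 11] (.inert [4, 17, 18] [9, 22, 11] (.inert [9] [22] (.cube [10, 11])))))))))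

/-- part of the tree -/
def t12 : T :=
  (.split (.inert [1] [16] (.inert [2] [17] (.inert [3] [18] (.inert [5] [19] (.inert [6] [20] (.split (.inert
  [9] [22, 23] (.inert [10] [23] (.leaf [] 1))) (.inert [9] [22, 23] (.inert [10] [23] (.cube [11]))) (.inert
  [9] [22, 23] (.inert [10] [23] (.cube [23]))))))))) (.inert [1] [16, 6, 8] (.inert [2] [17, 21] (.inert [3]
  [18] (.inert [5] [19, 21, 22] (.inert [6] [20] (.cube [8])))))) (.inert [1] [16, 18, 20] (.inert [2] [17, 9]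
  (.inert [3] [18] (.inert [5] [19, 9, 10] (.inert [6] [20] (.cube [20])))))))

/-- part of the tree -/
def t13 : T :=
  (.split (.inert [1] [16, 5, 7] (.inert [2] [17] (.inert [3] [18, 21] (.inert [5] [19] (.cube [7]))))) (.inert
  [1] [16, 5, 6, 7, 8, 9, 10, 23] (.inert [2] [17, 21] (.inert [3] [18, 21] (.inert [5] [19, 21, 22] (.cube [7,
  8, 9, 22, 11]))))) (.inert [1] [16, 5, 18, 7, 20, 21, 22, 11] (.inert [2] [17, 9] (.inert [3] [18, 21] (.inert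
  [5] [19, 9, 10] (.cube [7, 20, 21, 10, 23]))))))

/-- part of the tree -/
def t14 : T :=
  (.split (.inert [1] [16, 17, 19] (.inert [2] [17] (.inert [3] [18, 9] (.inert [5] [19] (.cube [19])))))
  (.inert [1] [16, 17, 6, 19, 8, 21, 22, 11] (.inert [2] [17, 21] (.inert [3] [18, 9] (.inert [5] [19, 21, 22]
  (.cube [19, 8, 21, 10, 23]))))) (.inert [1] [16, 17, 18, 19, 20, 9, 10, 23] (.inert [2] [17, 9] (.inert [3]
  [18, 9] (.inert [5] [19, 9, 10] (.cube [19, 20, 9, 22, 11]))))))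

/-- part of the tree -/
def t15 : T :=
  (.split (.inert [1] [16] (.inert [2] [5] (.inert [3] [6] (.inert [5] [19] (.inert [6] [20] (.split (.inert [9]
  [22, 11] (.inert [10] [11] (.leaf [0, 24, 0, 0, 24, 0] 1))) (.inert [9] [22, 11] (.inert [10] [11] (.cube
  [23]))) (.inert [9] [22, 11] (.inert [10] [11] (.cube [11]))))))))) (.inert [1] [16, 6, 8] (.inert [2] [5, 9]
  (.inert [3] [6] (.inert [5] [19, 21, 22] (.inert [6] [20] (.cube [20])))))) (.inert [1] [16, 18, 20] (.inert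
  [2] [5, 21] (.inert [3] [6] (.inert [5] [19, 9, 10] (.inert [6] [20] (.cube [8])))))))

/-- part of the tree -/
def t16 : T :=
  (.split (.inert [1] [16, 5, 7] (.inert [2] [5] (.inert [3] [6, 9] (.inert [5] [19] (.cube [19]))))) (.inert
  [1] [16, 5, 6, 7, 8, 9, 10, 23] (.inert [2] [5, 9] (.inert [3] [6, 9] (.inert [5] [19, 21, 22] (.cube [19, 20,
  21, 10, 11]))))) (.inert [1] [16, 5, 18, 7, 20, 21, 22, 11] (.inert [2] [5, 21] (.inert [3] [6, 9] (.inert [5]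
  [19, 9, 10] (.cube [19, 8, 9, 22, 23]))))))

/-- part of the tree -/
def t17 : T :=
  (.split (.inert [1] [16, 17, 19] (.inert [2] [5] (.inert [3] [6, 21] (.inert [5] [19] (.cube [7]))))) (.inert
  [1] [16, 17, 6, 19, 8, 21, 22, 11] (.inert [2] [5, 9] (.inert [3] [6, 21] (.inert [5] [19, 21, 22] (.cube [7,
  20, 9, 22, 23]))))) (.inert [1] [16, 17, 18, 19, 20, 9, 10, 23] (.inert [2] [5, 21] (.inert [3] [6, 21]
  (.inert [5] [19, 9, 10] (.cube [7, 8, 21, 10, 11]))))))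

/-- part of the tree -/
def t18 : T :=
  (.split (.inert [1] [4] (.split (.split (.inert [5] [7] (.inert [6] [8] (.split (.inert [9] [10] (.split
  (.leaf [1, 25, 1, 1, 25, 1] 0) (.leaf [1, 25, 1, 1, 25, 1] 7) (.leaf [1, 25, 1, 1, 25, 1] 4))) (.inert [9]
  [10] (.inert [4] [23] (.leaf [1, 25, 1, 1, 25, 1, 2, 26, 2, 15, 39, 15] 1))) (.inert [9] [10] (.inert [4] [11]
  (.leaf [1, 25, 1, 1, 25, 1, 2, 26, 2, 3, 27, 3] 1)))))) (.inert [5] [7, 11] (.inert [6] [8] (.inert [2] [9]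
  (.inert [9] [10] (.inert [7] [23] (.leaf [1, 25, 1, 1, 25, 1, 15, 39, 15] 1)))))) (.inert [5] [7, 23] (.inert
  [6] [8] (.inert [2] [21] (.inert [9] [10] (.inert [7] [11] (.leaf [1, 25, 1, 1, 25, 1, 3, 27, 3] 1)))))))
  (.split (.inert [5] [7] (.inert [6] [8, 11] (.inert [3] [9] (.inert [9] [10] (.inert [8] [23] (.leaf [1, 25,
  1, 1, 25, 1, 14, 38, 14] 1)))))) (.inert [5] [7, 11] (.inert [6] [8, 11] (.inert [3] [9] (.inert [9] [10]
  (.inert [8] [23] (.cube [23])))))) (.inert [5] [7, 23] (.inert [6] [8, 11] (.inert [3] [9] (.inert [9] [10]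
  (.inert [8] [23] (.cube [11]))))))) (.split (.inert [5] [7] (.inert [6] [8, 23] (.inert [3] [21] (.inert [9]
  [10] (.inert [8] [11] (.leaf [1, 25, 1, 1, 25, 1, 2, 26, 2] 1)))))) (.inert [5] [7, 11] (.inert [6] [8, 23]
  (.inert [3] [21] (.inert [9] [10] (.inert [8] [11] (.cube [11])))))) (.inert [5] [7, 23] (.inert [6] [8, 23]
  (.inert [3] [21] (.inert [9] [10] (.inert [8] [11] (.cube [23]))))))))) (.inert [1] [4, 6, 20] (.split (.split
  (.inert [5] [7, 21, 10] (.inert [6] [8] (.split (.inert [9] [10] (.split (.leaf [1, 25, 1, 1, 25, 1] 6) (.leaf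
  [1, 25, 1, 0, 24, 0, 3, 27, 3, 1, 25, 1] 9) (.leaf [1, 25, 1, 2, 26, 2, 3, 27, 3, 13, 37, 13] 11))) (.inert
  [9] [10] (.inert [4, 18] [23] (.leaf [5, 2, 26, 2, 1, 25, 1, 3, 27, 3, 18] 1))) (.inert [9] [10] (.inert [4,
  18] [11] (.leaf [17, 2, 26, 2, 13, 37, 13, 15, 39, 15, 18] 1)))))) (.inert [5] [7, 21, 10, 11] (.inert [6] [8]
  (.inert [2] [9] (.inert [9] [10] (.inert [7, 9] [23] (.leaf [13, 13, 37, 13, 15, 39, 15, 18] 1)))))) (.inert
  [5] [7, 21, 10, 23] (.inert [6] [8] (.inert [2] [21] (.inert [9] [10] (.inert [7, 9] [11] (.leaf [1, 1, 25, 1,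
  3, 27, 3, 18] 1))))))) (.split (.inert [5] [7, 21, 10] (.inert [6] [8, 11] (.inert [3] [9] (.inert [9] [10]
  (.cube [10]))))) (.inert [5] [7, 21, 10, 11] (.inert [6] [8, 11] (.inert [3] [9] (.inert [9] [10] (.cube [10,
  23]))))) (.inert [5] [7, 21, 10, 23] (.inert [6] [8, 11] (.inert [3] [9] (.inert [9] [10] (.cube [10,
  11])))))) (.split (.inert [5] [7, 21, 10] (.inert [6] [8, 23] (.inert [3] [21] (.inert [9] [10] (.cube
  [22]))))) (.inert [5] [7, 21, 10, 11] (.inert [6] [8, 23] (.inert [3] [21] (.inert [9] [10] (.cube [22,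
  11]))))) (.inert [5] [7, 21, 10, 23] (.inert [6] [8, 23] (.inert [3] [21] (.inert [9] [10] (.cube [22,
  23])))))))) (.inert [1] [4, 18, 8] (.split (.split (.inert [5] [7, 9, 22] (.inert [6] [8] (.split (.inert [9]
  [10] (.split (.leaf [1, 25, 1, 1, 25, 1] 3) (.leaf [1, 25, 1, 1, 25, 1] 10) (.leaf [1, 25, 1, 12, 36, 12, 15,
  39, 15, 13, 37, 13] 8))) (.inert [9] [10] (.inert [4, 6] [23] (.leaf [17, 2, 26, 2, 13, 37, 13, 3, 27, 3, 6]
  1))) (.inert [9] [10] (.inert [4, 6] [11] (.leaf [5, 2, 26, 2, 1, 25, 1, 15, 39, 15, 6] 1)))))) (.inert [5]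
  [7, 9, 22, 11] (.inert [6] [8] (.inert [2] [9] (.inert [9] [10] (.inert [7, 21] [23] (.leaf [1, 1, 25, 1, 15,
  39, 15, 6] 1)))))) (.inert [5] [7, 9, 22, 23] (.inert [6] [8] (.inert [2] [21] (.inert [9] [10] (.inert [7,
  21] [11] (.leaf [13, 13, 37, 13, 3, 27, 3, 6] 1))))))) (.split (.inert [5] [7, 9, 22] (.inert [6] [8, 11]
  (.inert [3] [9] (.inert [9] [10] (.cube [22]))))) (.inert [5] [7, 9, 22, 11] (.inert [6] [8, 11] (.inert [3]
  [9] (.inert [9] [10] (.cube [22, 23]))))) (.inert [5] [7, 9, 22, 23] (.inert [6] [8, 11] (.inert [3] [9]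
  (.inert [9] [10] (.cube [22, 11])))))) (.split (.inert [5] [7, 9, 22] (.inert [6] [8, 23] (.inert [3] [21]
  (.inert [9] [10] (.cube [10]))))) (.inert [5] [7, 9, 22, 11] (.inert [6] [8, 23] (.inert [3] [21] (.inert [9]
  [10] (.cube [10, 11]))))) (.inert [5] [7, 9, 22, 23] (.inert [6] [8, 23] (.inert [3] [21] (.inert [9] [10]
  (.cube [10, 23])))))))))

/-- part of the tree -/
def t19 : T :=
  (.split (.inert [1] [4, 5, 19] (.split (.split (.inert [5] [7] (.inert [6] [8, 21, 10] (.split (.inert [9]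
  [10] (.split (.leaf [1, 25, 1, 1, 25, 1] 5) (.leaf [1, 25, 1, 2, 26, 2, 3, 27, 3, 1, 25, 1] 10) (.leaf [1, 25,
  1, 1, 25, 1] 11))) (.inert [9] [10] (.inert [4, 17] [23] (.leaf [6, 3, 27, 3, 1, 25, 1, 2, 26, 2, 17] 1)))
  (.inert [9] [10] (.inert [4, 17] [11] (.leaf [18, 3, 27, 3, 13, 37, 13, 14, 38, 14, 17] 1)))))) (.inert [5]
  [7, 11] (.inert [6] [8, 21, 10] (.inert [2] [9] (.inert [9] [10] (.cube [10]))))) (.inert [5] [7, 23] (.inert
  [6] [8, 21, 10] (.inert [2] [21] (.inert [9] [10] (.cube [22])))))) (.split (.inert [5] [7] (.inert [6] [8,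
  21, 10, 11] (.inert [3] [9] (.inert [9] [10] (.inert [8, 9] [23] (.leaf [13, 13, 37, 13, 14, 38, 14, 17]
  1)))))) (.inert [5] [7, 11] (.inert [6] [8, 21, 10, 11] (.inert [3] [9] (.inert [9] [10] (.cube [10, 23])))))
  (.inert [5] [7, 23] (.inert [6] [8, 21, 10, 11] (.inert [3] [9] (.inert [9] [10] (.cube [22, 11])))))) (.split
  (.inert [5] [7] (.inert [6] [8, 21, 10, 23] (.inert [3] [21] (.inert [9] [10] (.inert [8, 9] [11] (.leaf [1,
  1, 25, 1, 2, 26, 2, 17] 1)))))) (.inert [5] [7, 11] (.inert [6] [8, 21, 10, 23] (.inert [3] [21] (.inert [9]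
  [10] (.cube [10, 11]))))) (.inert [5] [7, 23] (.inert [6] [8, 21, 10, 23] (.inert [3] [21] (.inert [9] [10]
  (.cube [22, 23])))))))) (.inert [1] [4, 5, 6, 19, 20, 9, 22, 11] (.split (.split (.inert [5] [7, 21, 10]
  (.inert [6] [8, 21, 10] (.inert [4, 17, 18] [21, 22, 23] (.inert [9] [10] (.split (.leaf [1, 25, 1, 0, 24, 0,
  2, 26, 2, 1, 25, 1] 11) (.leaf [4, 17, 18, 11, 1, 25, 1, 2, 26, 2, 3, 27, 3, 12, 36, 12, 13, 37, 13, 2, 26, 2,
  3, 27, 3, 0, 17, 18, 10] 1) (.leaf [5, 18, 21, 1, 25, 1, 2, 26, 2, 3, 27, 3, 1, 25, 1, 5, 18, 8, 11] 12))))))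
  (.inert [5] [7, 21, 10, 11] (.inert [6] [8, 21, 10] (.inert [4, 17, 18] [21, 22, 23] (.inert [9] [10] (.cube
  [10]))))) (.inert [5] [7, 21, 10, 23] (.inert [6] [8, 21, 10] (.inert [4, 17, 18] [21, 22, 23] (.inert [9]
  [10] (.cube [22])))))) (.split (.inert [5] [7, 21, 10] (.inert [6] [8, 21, 10, 11] (.inert [4, 17, 18] [21,
  22, 23] (.inert [9] [10] (.cube [10]))))) (.inert [5] [7, 21, 10, 11] (.inert [6] [8, 21, 10, 11] (.inert [4,
  17, 18] [21, 22, 23] (.inert [9] [10] (.cube [22, 23]))))) (.inert [5] [7, 21, 10, 23] (.inert [6] [8, 21, 10,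
  11] (.inert [4, 17, 18] [21, 22, 23] (.inert [9] [10] (.inert [8, 9] [23] (.cube [11]))))))) (.split (.inert
  [5] [7, 21, 10] (.inert [6] [8, 21, 10, 23] (.inert [4, 17, 18] [21, 22, 23] (.inert [9] [10] (.cube [22])))))
  (.inert [5] [7, 21, 10, 11] (.inert [6] [8, 21, 10, 23] (.inert [4, 17, 18] [21, 22, 23] (.inert [9] [10]
  (.inert [8, 9] [11] (.cube [11])))))) (.inert [5] [7, 21, 10, 23] (.inert [6] [8, 21, 10, 23] (.inert [4, 17,
  18] [21, 22, 23] (.inert [9] [10] (.cube [10, 23])))))))) (.inert [1] [4, 5, 18, 19, 8, 21, 10, 23] (.split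
  (.split (.inert [5] [7, 9, 22] (.inert [6] [8, 21, 10] (.inert [4, 17, 6] [9, 10, 11] (.inert [9] [10] (.split
  (.leaf [1, 25, 1, 12, 36, 12, 15, 39, 15, 13, 37, 13] 10) (.leaf [4, 6, 1, 25, 1, 12, 36, 12, 15, 39, 15, 13,
  37, 13, 2, 16, 18, 19, 9, 23] 12) (.leaf [16, 5, 18, 23, 1, 25, 1, 2, 26, 2, 3, 27, 3, 12, 36, 12, 13, 37, 13,
  2, 26, 2, 3, 27, 3, 0, 17, 6, 22] 1)))))) (.inert [5] [7, 9, 22, 11] (.inert [6] [8, 21, 10] (.inert [4, 17,
  6] [9, 10, 11] (.inert [9] [10] (.cube [10]))))) (.inert [5] [7, 9, 22, 23] (.inert [6] [8, 21, 10] (.inert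
  [4, 17, 6] [9, 10, 11] (.inert [9] [10] (.cube [22])))))) (.split (.inert [5] [7, 9, 22] (.inert [6] [8, 21,
  10, 11] (.inert [4, 17, 6] [9, 10, 11] (.inert [9] [10] (.cube [22]))))) (.inert [5] [7, 9, 22, 11] (.inert
  [6] [8, 21, 10, 11] (.inert [4, 17, 6] [9, 10, 11] (.inert [9] [10] (.inert [8, 9] [23] (.cube [23]))))))
  (.inert [5] [7, 9, 22, 23] (.inert [6] [8, 21, 10, 11] (.inert [4, 17, 6] [9, 10, 11] (.inert [9] [10] (.cube
  [10, 11])))))) (.split (.inert [5] [7, 9, 22] (.inert [6] [8, 21, 10, 23] (.inert [4, 17, 6] [9, 10, 11]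
  (.inert [9] [10] (.cube [10]))))) (.inert [5] [7, 9, 22, 11] (.inert [6] [8, 21, 10, 23] (.inert [4, 17, 6]
  [9, 10, 11] (.inert [9] [10] (.cube [22, 11]))))) (.inert [5] [7, 9, 22, 23] (.inert [6] [8, 21, 10, 23]
  (.inert [4, 17, 6] [9, 10, 11] (.inert [9] [10] (.inert [8, 9] [11] (.cube [23]))))))))))

/-- part of the tree -/
def t20 : T :=
  (.split (.inert [1] [4, 17, 7] (.split (.split (.inert [5] [7] (.inert [6] [8, 9, 22] (.split (.inert [9] [10]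
  (.split (.leaf [1, 25, 1, 1, 25, 1] 2) (.leaf [1, 25, 1, 12, 36, 12, 14, 38, 14, 13, 37, 13] 9) (.leaf [1, 25,
  1, 12, 36, 12, 14, 38, 14, 13, 37, 13] 8))) (.inert [9] [10] (.inert [4, 5] [23] (.leaf [18, 3, 27, 3, 13, 37,
  13, 2, 26, 2, 5] 1))) (.inert [9] [10] (.inert [4, 5] [11] (.leaf [6, 3, 27, 3, 1, 25, 1, 14, 38, 14, 5]
  1)))))) (.inert [5] [7, 11] (.inert [6] [8, 9, 22] (.inert [2] [9] (.inert [9] [10] (.cube [22]))))) (.inert
  [5] [7, 23] (.inert [6] [8, 9, 22] (.inert [2] [21] (.inert [9] [10] (.cube [10])))))) (.split (.inert [5] [7]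
  (.inert [6] [8, 9, 22, 11] (.inert [3] [9] (.inert [9] [10] (.inert [8, 21] [23] (.leaf [1, 1, 25, 1, 14, 38,
  14, 5] 1)))))) (.inert [5] [7, 11] (.inert [6] [8, 9, 22, 11] (.inert [3] [9] (.inert [9] [10] (.cube [22,
  23]))))) (.inert [5] [7, 23] (.inert [6] [8, 9, 22, 11] (.inert [3] [9] (.inert [9] [10] (.cube [10, 11]))))))
  (.split (.inert [5] [7] (.inert [6] [8, 9, 22, 23] (.inert [3] [21] (.inert [9] [10] (.inert [8, 21] [11]
  (.leaf [13, 13, 37, 13, 2, 26, 2, 5] 1)))))) (.inert [5] [7, 11] (.inert [6] [8, 9, 22, 23] (.inert [3] [21]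
  (.inert [9] [10] (.cube [22, 11]))))) (.inert [5] [7, 23] (.inert [6] [8, 9, 22, 23] (.inert [3] [21] (.inert
  [9] [10] (.cube [10, 23])))))))) (.inert [1] [4, 17, 6, 7, 20, 21, 10, 23] (.split (.split (.inert [5] [7, 21,
  10] (.inert [6] [8, 9, 22] (.inert [4, 5, 18] [9, 10, 11] (.inert [9] [10] (.split (.leaf [1, 25, 1, 1, 25, 1]
  9) (.leaf [4, 5, 1, 25, 1, 12, 36, 12, 14, 38, 14, 13, 37, 13, 3, 16, 17, 20, 9, 23] 12) (.leaf [16, 17, 6,
  23, 1, 25, 1, 2, 26, 2, 3, 27, 3, 12, 36, 12, 13, 37, 13, 2, 26, 2, 3, 27, 3, 0, 5, 18, 22] 1)))))) (.inert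
  [5] [7, 21, 10, 11] (.inert [6] [8, 9, 22] (.inert [4, 5, 18] [9, 10, 11] (.inert [9] [10] (.cube [22])))))
  (.inert [5] [7, 21, 10, 23] (.inert [6] [8, 9, 22] (.inert [4, 5, 18] [9, 10, 11] (.inert [9] [10] (.cube
  [10])))))) (.split (.inert [5] [7, 21, 10] (.inert [6] [8, 9, 22, 11] (.inert [4, 5, 18] [9, 10, 11] (.inert
  [9] [10] (.cube [10]))))) (.inert [5] [7, 21, 10, 11] (.inert [6] [8, 9, 22, 11] (.inert [4, 5, 18] [9, 10,
  11] (.inert [9] [10] (.inert [8, 21] [23] (.cube [23])))))) (.inert [5] [7, 21, 10, 23] (.inert [6] [8, 9, 22,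
  11] (.inert [4, 5, 18] [9, 10, 11] (.inert [9] [10] (.cube [22, 11])))))) (.split (.inert [5] [7, 21, 10]
  (.inert [6] [8, 9, 22, 23] (.inert [4, 5, 18] [9, 10, 11] (.inert [9] [10] (.cube [22]))))) (.inert [5] [7,
  21, 10, 11] (.inert [6] [8, 9, 22, 23] (.inert [4, 5, 18] [9, 10, 11] (.inert [9] [10] (.cube [10, 11])))))
  (.inert [5] [7, 21, 10, 23] (.inert [6] [8, 9, 22, 23] (.inert [4, 5, 18] [9, 10, 11] (.inert [9] [10] (.inert
  [8, 21] [11] (.cube [23]))))))))) (.inert [1] [4, 17, 18, 7, 8, 9, 22, 11] (.split (.split (.inert [5] [7, 9,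
  22] (.inert [6] [8, 9, 22] (.inert [4, 5, 6] [21, 22, 23] (.inert [9] [10] (.split (.leaf [1, 25, 1, 1, 25, 1]
  8) (.leaf [4, 5, 6, 11, 1, 25, 1, 2, 26, 2, 3, 27, 3, 12, 36, 12, 13, 37, 13, 2, 26, 2, 3, 27, 3, 0, 5, 6, 10]
  1) (.leaf [1, 25, 1, 1, 25, 1] 12)))))) (.inert [5] [7, 9, 22, 11] (.inert [6] [8, 9, 22] (.inert [4, 5, 6]
  [21, 22, 23] (.inert [9] [10] (.cube [22]))))) (.inert [5] [7, 9, 22, 23] (.inert [6] [8, 9, 22] (.inert [4,
  5, 6] [21, 22, 23] (.inert [9] [10] (.cube [10])))))) (.split (.inert [5] [7, 9, 22] (.inert [6] [8, 9, 22,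
  11] (.inert [4, 5, 6] [21, 22, 23] (.inert [9] [10] (.cube [22]))))) (.inert [5] [7, 9, 22, 11] (.inert [6]
  [8, 9, 22, 11] (.inert [4, 5, 6] [21, 22, 23] (.inert [9] [10] (.cube [10, 23]))))) (.inert [5] [7, 9, 22, 23]
  (.inert [6] [8, 9, 22, 11] (.inert [4, 5, 6] [21, 22, 23] (.inert [9] [10] (.inert [8, 21] [23] (.cube
  [11]))))))) (.split (.inert [5] [7, 9, 22] (.inert [6] [8, 9, 22, 23] (.inert [4, 5, 6] [21, 22, 23] (.inert
  [9] [10] (.cube [10]))))) (.inert [5] [7, 9, 22, 11] (.inert [6] [8, 9, 22, 23] (.inert [4, 5, 6] [21, 22, 23]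
  (.inert [9] [10] (.inert [8, 21] [11] (.cube [11])))))) (.inert [5] [7, 9, 22, 23] (.inert [6] [8, 9, 22, 23]
  (.inert [4, 5, 6] [21, 22, 23] (.inert [9] [10] (.cube [22, 23])))))))))

/-- part of the tree -/
def t21 : T :=
  (.split (.inert [1] [4] (.inert [2] [17] (.inert [3] [18] (.inert [5] [7] (.inert [6] [8] (.split (.inert [9]
  [10, 11] (.inert [10] [23] (.leaf [1, 25, 1, 1, 25, 1] 1))) (.inert [9] [10, 11] (.inert [10] [23] (.cube
  [23]))) (.inert [9] [10, 11] (.inert [10] [23] (.cube [11]))))))))) (.inert [1] [4, 6, 20] (.inert [2] [17,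
  21] (.inert [3] [18] (.inert [5] [7, 21, 10] (.inert [6] [8] (.cube [20])))))) (.inert [1] [4, 18, 8] (.inert
  [2] [17, 9] (.inert [3] [18] (.inert [5] [7, 9, 22] (.inert [6] [8] (.cube [8])))))))

/-- part of the tree -/
def t22 : T :=
  (.split (.inert [1] [4, 5, 19] (.inert [2] [17] (.inert [3] [18, 21] (.inert [5] [7] (.cube [19]))))) (.inert
  [1] [4, 5, 6, 19, 20, 9, 22, 11] (.inert [2] [17, 21] (.inert [3] [18, 21] (.inert [5] [7, 21, 10] (.cube [19,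
  20, 9, 10, 23]))))) (.inert [1] [4, 5, 18, 19, 8, 21, 10, 23] (.inert [2] [17, 9] (.inert [3] [18, 21] (.inert
  [5] [7, 9, 22] (.cube [19, 8, 21, 22, 11]))))))

/-- part of the tree -/
def t23 : T :=
  (.split (.inert [1] [4, 17, 7] (.inert [2] [17] (.inert [3] [18, 9] (.inert [5] [7] (.cube [7]))))) (.inert
  [1] [4, 17, 6, 7, 20, 21, 10, 23] (.inert [2] [17, 21] (.inert [3] [18, 9] (.inert [5] [7, 21, 10] (.cube [7,
  20, 21, 22, 11]))))) (.inert [1] [4, 17, 18, 7, 8, 9, 22, 11] (.inert [2] [17, 9] (.inert [3] [18, 9] (.inert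
  [5] [7, 9, 22] (.cube [7, 8, 9, 10, 23]))))))

/-- part of the tree -/
def t24 : T :=
  (.split (.inert [1] [4] (.inert [2] [5] (.inert [3] [6] (.inert [5] [7] (.inert [6] [8] (.split (.inert [9]
  [10, 23] (.inert [10] [11] (.leaf [0, 24, 0, 0, 24, 0, 1, 25, 1, 1, 25, 1] 1))) (.inert [9] [10, 23] (.inert
  [10] [11] (.cube [11]))) (.inert [9] [10, 23] (.inert [10] [11] (.cube [23]))))))))) (.inert [1] [4, 6, 20]
  (.inert [2] [5, 9] (.inert [3] [6] (.inert [5] [7, 21, 10] (.inert [6] [8] (.cube [8])))))) (.inert [1] [4,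
  18, 8] (.inert [2] [5, 21] (.inert [3] [6] (.inert [5] [7, 9, 22] (.inert [6] [8] (.cube [20])))))))

/-- part of the tree -/
def t25 : T :=
  (.split (.inert [1] [4, 5, 19] (.inert [2] [5] (.inert [3] [6, 9] (.inert [5] [7] (.cube [7]))))) (.inert [1]
  [4, 5, 6, 19, 20, 9, 22, 11] (.inert [2] [5, 9] (.inert [3] [6, 9] (.inert [5] [7, 21, 10] (.cube [7, 8, 21,
  22, 23]))))) (.inert [1] [4, 5, 18, 19, 8, 21, 10, 23] (.inert [2] [5, 21] (.inert [3] [6, 9] (.inert [5] [7,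
  9, 22] (.cube [7, 20, 9, 10, 11]))))))

/-- part of the tree -/
def t26 : T :=
  (.split (.inert [1] [4, 17, 7] (.inert [2] [5] (.inert [3] [6, 21] (.inert [5] [7] (.cube [19]))))) (.inert
  [1] [4, 17, 6, 7, 20, 21, 10, 23] (.inert [2] [5, 9] (.inert [3] [6, 21] (.inert [5] [7, 21, 10] (.cube [19,
  8, 9, 10, 11]))))) (.inert [1] [4, 17, 18, 7, 8, 9, 22, 11] (.inert [2] [5, 21] (.inert [3] [6, 21] (.inert
  [5] [7, 9, 22] (.cube [19, 20, 21, 22, 23]))))))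

/-- the tree -/
def tree : T := (.split (.split (.split t0 t1 t2) (.split t3 t4 t5) (.split t6 t7 t8)) (.split (.split t9 t10 t11) (.split t12
  t13 t14) (.split t15 t16 t17)) (.split (.split t18 t19 t20) (.split t21 t22 t23) (.split t24 t25 t26)))

theorem tree_ok : chk (eqW mats) 12 reps tree 0 [] = true := by decide +kernel

theorem good {u : Ω} (hu : u ∈ M g 12 0) : Good g reps u := by
  simpa [ev_nil] using chk_sound pc eqW_sound reps tree 0 [] tree_ok (one_mem _) u hu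

theorem card_K : Nat.card PΩ = 4952179814400 := by
  have := S0293.result (F := ZMod 3) (q := 3) rfl 4 le_rfl
  norm_num [Finset.prod_range_succ] at this
  change Nat.card (POmega (ZMod 3) (quadFormPlus 4 (ZMod 3))) = _
  omega

theorem mu_of_mk_eq {s t : Ω} (h : (QuotientGroup.mk s : PΩ) = QuotientGroup.mk t) :
    ∃ c : 𝔽, c * c = 1 ∧ mu t.1 = c • mu s.1 := by
  obtain ⟨c, h0, hc⟩ := rho_of_mk_eq h
  refine ⟨c, (by decide : ∀ c : 𝔽, c ≠ 0 → c * c = 1) c h0, Matrix.ext fun r k => ?_⟩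
  rw [mu_entry, hc, Matrix.smul_apply, mu_entry]; rfl

theorem eq_one_of_mk {u : Ω} {k : ℕ} (h : u ^ 3 ^ k = 1) (h1 : (QuotientGroup.mk u : PΩ) = 1) :
    u = 1 := by
  obtain ⟨c, hc, e⟩ := mu_of_mk_eq (s := 1) (t := u) h1.symm
  have h2 : u ^ 2 = 1 := Subtype.ext (mu_injective (by
    rw [Subgroup.coe_pow, map_pow, e, Subgroup.coe_one, map_one, pow_two, smul_mul_smul_comm, hc,
      one_mul, one_smul]))
  exact orderOf_eq_one_iff.1 (Nat.eq_one_of_dvd_coprimes (Nat.Coprime.pow_right k (by decide))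
    (orderOf_dvd_of_pow_eq_one h2) (orderOf_dvd_of_pow_eq_one h))

/-- the representatives in the projective group -/
noncomputable def y (j : ℕ) : PΩ := QuotientGroup.mk (ev g (reps.getD j []))

theorem exists_conj_rep {x : PΩ} (hx : orderOf x = 3) : ∃ j < 13, IsConj x (y j) := by
  haveI : Fact (Nat.Prime 3) := ⟨Nat.prime_three⟩
  have hU : Nat.card (M g 12 0) = 3 ^ 12 := pc.card_M 12 0 rfl
  have hp : IsPGroup 3 (M g 12 0) := IsPGroup.of_card hU
  let π := QuotientGroup.mk' (center Ω)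
  have hinj : Function.Injective (π.comp (M g 12 0).subtype) :=
    (injective_iff_map_eq_one _).2 fun u hu => by
      obtain ⟨k, hk⟩ := hp u
      exact Subtype.ext (eq_one_of_mk (congrArg Subtype.val hk) hu)
  have hc : Nat.card (π.comp (M g 12 0).subtype).range = 3 ^ 12 := by
    rw [← Nat.card_congr (MonoidHom.ofInjective hinj).toEquiv, hU]
  have hi : ¬ 3 ∣ (π.comp (M g 12 0).subtype).range.index := by
    have := (π.comp (M g 12 0).subtype).range.card_mul_index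
    rw [hc, card_K] at this
    omega
  obtain ⟨P, hP⟩ := (IsPGroup.of_card (p := 3) (G := zpowers x) (n := 1)
    (by rw [Nat.card_zpowers, hx, pow_one])).exists_le_sylow
  obtain ⟨c, hc'⟩ := MulAction.exists_smul_eq PΩ P ((IsPGroup.of_card hc).toSylow hi)
  have h1 : c * x * c⁻¹ ∈ (c • P : Sylow 3 PΩ) := ⟨x, hP (mem_zpowers x), rfl⟩
  rw [hc'] at h1
  obtain ⟨u, hu⟩ := h1
  have hu' : (QuotientGroup.mk u.1 : PΩ) = c * x * c⁻¹ := hu
  obtain ⟨k, hk⟩ := hp u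
  have h3 : u.1 ^ 3 = 1 := eq_one_of_mk (k := k) (by
    rw [← pow_mul, mul_comm, pow_mul, show u.1 ^ 3 ^ k = 1 from congrArg Subtype.val hk, one_pow])
    (by rw [QuotientGroup.mk_pow, hu', conj_pow, orderOf_dvd_iff_pow_eq_one.1 hx.dvd]; simp)
  obtain ⟨j, hj, h4⟩ := good u.2 h3
  have h5 : IsConj x (y j) := (isConj_iff.2 ⟨c, hu'.symm⟩).trans (π.map_isConj h4)
  refine ⟨j, ?_, h5⟩
  by_contra h6
  obtain rfl : j = 13 := by
    have : reps.length = 14 := rfl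
    omega
  have h7 : y 13 = 1 := rfl
  rw [h7, isConj_one_left] at h5
  rw [h5, orderOf_one] at hx
  omega

end Cfsg.Agent.H38.O8
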