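import Cfsg.Agent.H38.MonTwoC
import Cfsg.Agent.H15.Charac

/-! The sublattice of the Leech lattice supported on an octad. -/

set_option autoImplicit false

namespace Cfsg.Agent.H38.MT

open H15 Finset
open Cfsg.Agent.H14 (idx bits enc)

variable {e : Finset GolayPt}

/-- supported on `e` -/
def Fx (e : Finset GolayPt) (v : leechLattice) : Prop := ∀ i ∉ e, (v : Vec) i = 0

/-- the restriction to `e` is a lattice vector -/
def Spl (e : Finset GolayPt) (u : leechLattice) : Prop :=
  ∃ w : leechLattice, ∀ i, (w : Vec) i = if i ∈ e then (u : Vec) i else 0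

theorem Fx.add {v w : leechLattice} (h : Fx e v) (h' : Fx e w) : Fx e (v + w) := fun i hi => by
  rw [AddSubgroup.coe_add, Pi.add_apply, h i hi, h' i hi, add_zero]

theorem Fx.neg {v : leechLattice} (h : Fx e v) : Fx e (-v) := fun i hi => by
  rw [AddSubgroup.coe_neg, Pi.neg_apply, h i hi, neg_zero]

theorem fx_zero : Fx e 0 := fun _ _ => rfl

theorem Fx.spl {v : leechLattice} (h : Fx e v) : Spl e v :=
  ⟨v, fun i => by split_ifs with hi; exacts [rfl, h i hi]⟩

theorem Fx.half {v y w : leechLattice} (h : Fx e v) (h' : Fx e y) (hw : v = y + (w + w)) :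
    Fx e w := fun i hi => by
  have := h i hi
  rw [hw, AddSubgroup.coe_add, AddSubgroup.coe_add, Pi.add_apply, Pi.add_apply, h' i hi] at this
  omega

theorem Fx.sign (he : IsCw e) {v : leechLattice} (h : Fx e v) : signC e he • v = -v :=
  Subtype.ext <| funext fun i => by
    rw [signC_apply, AddSubgroup.coe_neg, Pi.neg_apply]
    split_ifs with hi
    exacts [rfl, by rw [h i hi, neg_zero]]

theorem exists_not_mem (hc : e.card = 8) : ∃ i, i ∉ e := by
  obtain ⟨i, hi⟩ := card_pos.1 (show 0 < eᶜ.card by rw [card_compl']; omega)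
  exact ⟨i, mem_compl.1 hi⟩

theorem Fx.even (hc : e.card = 8) {v : leechLattice} (h : Fx e v) :
    (∀ j, (v : Vec) j % 2 = 0) ∧ (∑ j, (v : Vec) j) % 8 = 0 := by
  obtain ⟨i, hi⟩ := exists_not_mem hc
  exact even_of (i := i) (by rw [h i hi]; rfl)

theorem Fx.cases (he : IsCw e) (hc : e.card = 8) {v : leechLattice} (h : Fx e v) :
    (∀ i, (v : Vec) i % 4 = 0) ∨ ∀ i ∈ e, (v : Vec) i % 4 = 2 := by
  have hs : tw v ⊆ e := fun i hi => by_contra fun h' => by
    rw [mem_tw, h i h'] at hi; omega
  rcases sub_cases (tw_cw v) he hs with h1 | h1 | h1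
  · refine Or.inl fun i => ?_
    have h2 : ¬ (v : Vec) i % 4 = 2 := by rw [← mem_tw, h1]; simp
    have := (h.even hc).1 i
    omega
  · exact Or.inr fun i hi => by rw [← mem_tw, h1]; exact hi
  · omega

theorem Fx.norm (he : IsCw e) (hc : e.card = 8) {v : leechLattice} (h : Fx e v) :
    (32 : ℤ) ∣ sqNorm (v : Vec) := by
  rcases h.cases he hc with h1 | h1
  · have := dvd_norm_sub v (fun i => 4 * (v : Vec) i) fun i => sq_four (h1 i)
    rw [← mul_sum] at this
    have := (h.even hc).2
    omega
  · have := dvd_norm_sub v (fun i => if i ∈ e then 4 else 0) fun i => by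
      split_ifs with hi
      exacts [sq_two (h1 i hi), by rw [h i hi]; norm_num]
    rw [sum_ite_mem, univ_inter, sum_const, hc] at this
    simp only [nsmul_eq_mul, Nat.cast_ofNat] at this
    omega

theorem Fx.dot (he : IsCw e) (hc : e.card = 8) {v w : leechLattice} (h : Fx e v) (h' : Fx e w) :
    (16 : ℤ) ∣ dotInt (v : Vec) w := by
  have h1 := (h.add h').norm he hc
  have h2 := h.norm he hc
  have h3 := h'.norm he hc
  rw [AddSubgroup.coe_add, sqNorm_add] at h1
  omega

theorem Spl.dot (he : IsCw e) (hc : e.card = 8) {v u : leechLattice} (h : Fx e v) (h' : Spl e u) :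
    (16 : ℤ) ∣ dotInt (v : Vec) u := by
  obtain ⟨w, hw⟩ := h'
  have := h.dot he hc (w := w) fun i hi => by rw [hw, if_neg hi]
  convert this using 1
  refine sum_congr rfl fun i _ => ?_
  rw [hw]
  split_ifs with hi
  exacts [rfl, by rw [h i hi, zero_mul, zero_mul]]

theorem spl_iff (he : IsCw e) {u : leechLattice} :
    Spl e u ↔ ∃ w : leechLattice, signC e he • u = u + (w + w) := by
  constructor
  · rintro ⟨w, hw⟩
    refine ⟨-w, Subtype.ext (funext fun i => ?_)⟩
    simp only [signC_apply, AddSubgroup.coe_add, Pi.add_apply, AddSubgroup.coe_neg, Pi.neg_apply, hw]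
    split_ifs <;> ring
  · rintro ⟨w, hw⟩
    refine ⟨-w, fun i => ?_⟩
    have := congrArg (fun x : leechLattice => (x : Vec) i) hw
    simp only [signC_apply, AddSubgroup.coe_add, Pi.add_apply] at this
    rw [AddSubgroup.coe_neg, Pi.neg_apply]
    split_ifs at this ⊢ <;> omega

theorem dot_vTwo (u : Vec) (e : Finset GolayPt) : dotInt u (vTwo e) = 2 * ∑ i ∈ e, u i := by
  simp only [dotInt, vTwo, mul_ite, mul_zero, sum_ite_mem, univ_inter, mul_sum, mul_comm]

theorem spl_of (he : IsCw e) (hc : e.card = 8) {u : leechLattice}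
    (h1 : ∀ i ∈ e, ∀ j ∈ e, (16 : ℤ) ∣ dotInt (u : Vec) (w4 i j 1 rfl : Vec))
    (h2 : (16 : ℤ) ∣ dotInt (u : Vec) (vTwo e)) : Spl e u := by
  obtain ⟨a, ha⟩ := const_of_pairs (e := e) (by omega) u fun i hi j hj _ => by
    have := h1 i hi j hj
    rw [dot_w4] at this
    omega
  rw [dot_vTwo] at h2
  refine ⟨⟨fun i => if i ∈ e then (u : Vec) i else 0, mem_leech_of_even (fun i => ?_) ?_ ?_⟩,
    fun _ => rfl⟩
  · split_ifs with hi
    exacts [by have := ha i hi; omega, rfl]
  · rw [sum_ite_mem, univ_inter]; omega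
  · rcases Int.emod_two_eq_zero_or_one a with h | h
    · convert isCw_empty using 1
      refine filter_eq_empty_iff.2 fun i _ => ?_
      split_ifs with hi
      exacts [by have := ha i hi; omega, by decide]
    · convert he using 1
      ext i
      rw [mem_filter]
      split_ifs with hi
      · exact iff_of_true ⟨mem_univ _, by have := ha i hi; omega⟩ hi
      · exact iff_of_false (fun h => absurd h.2 (by decide)) hi

theorem no_eight (he : IsCw e) (hc : e.card = 8) (w : leechLattice) :
    sqNorm (fun i => if i ∈ e then 0 else (w : Vec) i) ≠ 8 := by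
  intro h
  rcases parity_cases w.2 with ⟨h1, -⟩ | ⟨h1, -⟩
  · have h2 := four_card_le (fun i => if i ∈ e then 0 else (w : Vec) i) (tw w \ e) fun i hi => by
      obtain ⟨h3, h4⟩ := mem_sdiff.1 hi
      rw [mem_tw] at h3
      simp only [if_neg h4]
      omega
    rw [h] at h2
    by_cases h0 : tw w ⊆ e
    · have : (16 : ℤ) ∣ sqNorm (fun i => if i ∈ e then 0 else (w : Vec) i) := by
        refine dvd_sum fun i _ => ?_
        beta_reduce
        split_ifs with hi
        · norm_num
        · have h3 : ¬ (w : Vec) i % 4 = 2 := fun h => hi (h0 (mem_tw.2 h))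
          have := sq_mod16_even (h1 i)
          rwa [if_neg h3, sub_zero] at this
      omega
    · have c1 := (tw_cw w).card_cases
      have c2 := ((tw_cw w).symmDiff he).card_cases
      have c3 : (symmDiff (tw w) e).card = (tw w \ e).card + (e \ tw w).card := by
        rw [symmDiff_def, sup_eq_union, card_union_of_disjoint disjoint_sdiff_sdiff]
      have c4 := card_sdiff_add_card_inter (tw w) e
      have c5 := card_sdiff_add_card_inter e (tw w)
      rw [inter_comm] at c5
      have c6 : 0 < (tw w \ e).card := card_pos.2 (sdiff_nonempty.2 h0)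
      omega
  · have : ∑ i, (if i ∈ eᶜ then (1 : ℤ) else 0) ≤
        sqNorm (fun i => if i ∈ e then 0 else (w : Vec) i) := by
      refine sum_le_sum fun i _ => ?_
      by_cases hi : i ∈ e
      · simp [hi]
      · have := h1 i
        simp only [hi, mem_compl, not_false_eq_true, if_true, if_false]
        nlinarith [sq_nonneg ((w : Vec) i), (by omega : (w : Vec) i ≤ -1 ∨ 1 ≤ (w : Vec) i).elim
          (fun h => by nlinarith : _ → 1 ≤ (w : Vec) i ^ 2) fun h => by nlinarith]
    rw [sum_ite_mem, univ_inter, sum_const, card_compl', hc, h] at this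
    norm_num at this

theorem norm_congr (he : IsCw e) (hc : e.card = 8) {v y w : leechLattice} (h : Fx e v)
    (hw : v = y + (w + w)) (hy : sqNorm (y : Vec) ≤ 64 ∨ Fx e y) :
    (64 : ℤ) ∣ sqNorm (v : Vec) - sqNorm (y : Vec) := by
  have A : Fx e y → (64 : ℤ) ∣ sqNorm (v : Vec) - sqNorm (y : Vec) := fun hy => by
    have h1 := hy.dot he hc (h.half hy hw)
    have h2 := sixteen_dvd_sqNorm w.2
    rw [hw, AddSubgroup.coe_add, AddSubgroup.coe_add, sqNorm_add, sqNorm_add, dot_add_right,
      dot_self]
    omega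
  refine hy.elim (fun hy => ?_) A
  have hv : ∀ i, (v : Vec) i = (y : Vec) i + 2 * (w : Vec) i := fun i => by
    rw [hw, AddSubgroup.coe_add, AddSubgroup.coe_add, Pi.add_apply, Pi.add_apply]; ring
  have hX := add_sign e he w
  generalize w + signC e he • w = p at hX
  have hp : (p : Vec) = (2 : ℤ) • fun i => if i ∈ e then 0 else (w : Vec) i := funext hX
  have hO : ∀ i, ((y + p : leechLattice) : Vec) i = if i ∈ e then (y : Vec) i else 0 := fun i => by
    rw [AddSubgroup.coe_add, Pi.add_apply, hX]
    split_ifs with hi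
    · ring
    · rw [← hv, h i hi]
  have hd : dotInt ((y + p : leechLattice) : Vec) p = 0 := sum_eq_zero fun i _ => by
    rw [hO, hX]; split_ifs <;> ring
  have hn : sqNorm (y : Vec) = sqNorm ((y + p : leechLattice) : Vec) + sqNorm (p : Vec) := by
    have := sqNorm_sub ((y + p : leechLattice) : Vec) p
    rw [hd, AddSubgroup.coe_add, add_sub_cancel_right] at this
    rw [this, AddSubgroup.coe_add]; ring
  by_cases h1 : (p : Vec) = 0
  · refine A fun i hi => ?_
    have := hO i
    rwa [if_neg hi, AddSubgroup.coe_add, h1, add_zero] at this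
  by_cases h2 : ((y + p : leechLattice) : Vec) = 0
  · have h3 : dotInt (y : Vec) v = 0 := sum_eq_zero fun i _ => by
      by_cases hi : i ∈ e
      · have := hO i
        rw [h2, if_pos hi] at this
        rw [← this]; simp
      · rw [h i hi, mul_zero]
    have h4 := sixteen_dvd_sqNorm w.2
    have h5 := h.norm he hc
    rw [hw, AddSubgroup.coe_add, AddSubgroup.coe_add] at h3 h5 ⊢
    rw [dot_add_right, dot_add_right, dot_self] at h3
    rw [sqNorm_add, sqNorm_add, dot_add_right, dot_self] at h5 ⊢
    omega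
  · have m1 := min_norm p.2 h1
    have m2 := min_norm (y + p).2 h2
    have m3 := no_eight he hc w
    rw [hp, sqNorm_smul] at m1 hn
    omega

theorem sign_vTwo (he : IsCw e) (hc : e.card = 8) {d : Finset GolayPt} (hd : IsCw d)
    {w : leechLattice} {δ : ℤ} (hδ : δ = 0 ∨ δ = 1)
    (h : signC d hd • (⟨_, vTwo_mem he⟩ : leechLattice) = ⟨_, vTwo_mem he⟩ + δ • e8 none + (w + w)) :
    δ = 0 ∧ (Disjoint d e ∨ e ⊆ d) := by
  have hw : ∀ i, (w : Vec) i = (if i ∈ d ∩ e then -2 else 0) - if i = none then 4 * δ else 0 :=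
    fun i => by
      have := congrArg (fun x : leechLattice => (x : Vec) i) h
      simp only [signC_apply, AddSubgroup.coe_add, Pi.add_apply, AddSubgroup.coe_zsmul,
        Pi.smul_apply, e8_val, Pi.single_apply, vTwo, smul_eq_mul] at this
      by_cases h1 : i ∈ d <;> by_cases h2 : i ∈ e
      · rw [if_pos h1, if_pos h2] at this; rw [if_pos (mem_inter.2 ⟨h1, h2⟩)]
        split_ifs at this ⊢ <;> omega
      all_goals
        rw [if_neg (fun h => by have := mem_inter.1 h; tauto)]
        simp only [h1, h2, if_true, if_false] at this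
        split_ifs at this ⊢ <;> omega
  have h1 : tw w = d ∩ e := by
    ext i
    rw [mem_tw, hw]
    split_ifs with h1 <;> simp only [h1, iff_true, iff_false] <;> omega
  have h2 := (even_of (v := w) (i := none) (by rw [hw]; split_ifs <;> omega)).2
  simp only [hw, sum_sub_distrib, sum_ite_mem, univ_inter, sum_const, sum_ite_eq', mem_univ,
    if_true, nsmul_eq_mul] at h2
  rcases sub_cases (h1 ▸ tw_cw w) he inter_subset_right with h3 | h3 | h3
  · rw [h3] at h2
    exact ⟨by simp at h2; omega, Or.inl (disjoint_iff_inter_eq_empty.2 h3)⟩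
  · rw [h3, hc] at h2
    exact ⟨by simp at h2; omega, Or.inr (inter_eq_right.1 h3)⟩
  · omega

theorem sign_w4 {d : Finset GolayPt} (hd : IsCw d) {i j : GolayPt} {w : leechLattice}
    (h : signC d hd • w4 i j 1 rfl = w4 i j 1 rfl + (w + w)) : i ∈ d ↔ j ∈ d := by
  have hw : ∀ l, (w : Vec) l = (if l = i then (if i ∈ d then -4 else 0) else 0) +
      (if l = j then (if j ∈ d then -4 else 0) else 0) := fun l => by
    have := congrArg (fun x : leechLattice => (x : Vec) l) h
    simp only [signC_apply, AddSubgroup.coe_add, Pi.add_apply, w4_apply] at this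
    by_cases h1 : l = i <;> by_cases h2 : l = j
    · subst h1 h2; simp only [if_true] at this ⊢; split_ifs at this ⊢ <;> omega
    · subst h1; simp only [if_true, if_neg h2] at this ⊢; split_ifs at this ⊢ <;> omega
    · subst h2; simp only [if_true, if_neg h1] at this ⊢; split_ifs at this ⊢ <;> omega
    · simp only [if_neg h1, if_neg h2] at this ⊢; split_ifs at this <;> omega
  have h2 := (even_of (v := w) (i := none) (by rw [hw]; split_ifs <;> omega)).2
  simp only [hw, sum_add_distrib, sum_ite_eq', mem_univ, if_true] at h2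
  split_ifs at h2 with h3 h4 h4
  · exact iff_of_true h3 h4
  · omega
  · omega
  · exact iff_of_false h3 h4

theorem e8_congr (i j : GolayPt) : e8 j = e8 i + (w4 j i (-1) rfl + w4 j i (-1) rfl) :=
  Subtype.ext <| funext fun l => by
    simp only [AddSubgroup.coe_add, Pi.add_apply, w4_apply, e8_val, Pi.single_apply]
    split_ifs <;> rfl

end Cfsg.Agent.H38.MT
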