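import Cfsg.Agent.H38.TenA

/-! Groups of Monster type: the elementary abelian group `2^10` attached to an octad. -/

set_option autoImplicit false

namespace Cfsg.Agent.H38.MT

open Subgroup H15 H97
open Cfsg.Agent.H14 (idx bits enc)
open scoped Pointwise

universe u

variable {G : Type u} [Group G] {z : G} {Q : Subgroup G}
  {π : centralizer ({z} : Set G) →* Spor.Co1} {R : G → leechLattice → Prop}

/-- the elements of `Q` with a label supported on `e` -/
def Z0 (M : MD z Q π R) (e : Finset GolayPt) : Subgroup G where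
  carrier := {b | ∃ v, Fx e v ∧ R b v}
  one_mem' := ⟨0, fx_zero, by simpa using M.two 0⟩
  mul_mem' := by
    rintro a b ⟨v, h1, h2⟩ ⟨w, h3, h4⟩
    exact ⟨_, h1.add h3, M.mul h2 h4⟩
  inv_mem' := by
    rintro a ⟨v, h1, h2⟩
    exact ⟨v, h1, M.inv h2⟩

/-- twice the indicator of a codeword -/
def lTwo {e : Finset GolayPt} (he : IsCw e) : leechLattice := ⟨_, vTwo_mem he⟩

theorem lTwo_apply {e : Finset GolayPt} (he : IsCw e) (i : GolayPt) :
    (lTwo he : Vec) i = if i ∈ e then 2 else 0 := rfl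

/-- trivial or conjugate to `z` -/
def Sing (z y : G) : Prop := y = 1 ∨ IsConj z y

theorem Sing.conj {y : G} (h : Sing z y) (c : G) : Sing z (c * y * c⁻¹) :=
  h.imp (fun h => by simp [h]) fun h => h.trans (isConj_iff.2 ⟨c, rfl⟩)

theorem sing_conj {y : G} (c : G) : Sing z (c * y * c⁻¹) ↔ Sing z y :=
  ⟨fun h => by simpa [mul_assoc] using h.conj c⁻¹, fun h => h.conj c⟩

theorem Ov.eq {u : G} {k k' : Co0} (h : Ov π u k) (h' : Ov π u k') : k' = k ∨ k' = negC * k :=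
  co1_eq_iff.1 (h.2.trans h'.2.symm)

theorem Ov.compl {u : G} {d : Finset GolayPt} {hd : IsCw d} (h : Ov π u (signC d hd)) :
    Ov π u (signC dᶜ hd.compl) := by
  have := h.neg
  rwa [← negC_comm, ← H26.CoInv.signC_compl] at this

theorem Ov.congr {u : G} {d d' : Finset GolayPt} {hd : IsCw d} (h : Ov π u (signC d hd))
    (e : d = d') (hd' : IsCw d') : Ov π u (signC d' hd') := by subst e; exact h

variable (M : MD z Q π R) {e : Finset GolayPt}

theorem Z0_le : Z0 M e ≤ Q := fun _ ⟨_, _, h⟩ => M.mem h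

theorem z_mem_Z0 : z ∈ Z0 M e := ⟨0, fx_zero, M.zed⟩

include M

theorem z_mul_ne (x : G) : z * x ≠ x := fun h => M.lx.ne (mul_eq_right.1 h)

theorem not_mem_of_sign {he : IsCw e} (h0 : 0 < e.card) (h1 : e.card < 24) {y : G}
    (ho : Ov π y (signC e he)) : y ∉ Q := fun hy => by
  obtain ⟨i, hi⟩ := Finset.card_pos.1 h0
  obtain ⟨j, hj⟩ := Finset.card_pos.1 (show 0 < eᶜ.card by rw [card_compl']; omega)
  rcases (ov_one M hy).eq ho with h | h
  · have := congrArg (fun k : Co0 => ((k • e8 i : leechLattice) : Vec) i) h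
    simp [signC_apply, hi, e8_val] at this
  · have := congrArg (fun k : Co0 => ((k • e8 j : leechLattice) : Vec) j) h
    simp [signC_apply, Finset.mem_compl.1 hj, e8_val, negC_smul] at this

theorem spl_of_conj {he : IsCw e} {y x : G} {u : leechLattice} (ho : Ov π y (signC e he))
    (hx : R x u) (h : y * x * y⁻¹ = x ∨ y * x * y⁻¹ = z * x) : Spl e u := by
  have := ho.lab M hx
  rcases h with h | h <;> rw [h] at this
  · exact (spl_iff he).2 (M.congr hx this)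
  · exact (spl_iff he).2 (M.congr (M.zmul hx) this)

theorem comm_of_spl {he : IsCw e} {y x : G} {u : leechLattice} (ho : Ov π y (signC e he))
    (hn : Nz z Q y) (hx : R x u) (h : Spl e u) : y * x * y⁻¹ = x := by
  obtain ⟨w, hw⟩ := (spl_iff he).1 h
  have := ho.lab M hx
  rw [hw] at this
  exact (M.uniq (M.add_two hx w) this).resolve_right (hn x (M.mem hx))

variable [Finite G]

theorem Z0_comm (he : IsCw e) (hc : e.card = 8) {b x : G} {u : leechLattice} (hb : b ∈ Z0 M e)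
    (hx : R x u) (h : Spl e u) : b * x = x * b := by
  obtain ⟨v, h1, h2⟩ := hb
  exact (M.comm_iff h2 hx).2 (h.dot he hc h1)

theorem Z0_comm' (he : IsCw e) (hc : e.card = 8) {a b : G} (ha : a ∈ Z0 M e) (hb : b ∈ Z0 M e) :
    a * b = b * a := by
  obtain ⟨v, h1, h2⟩ := hb
  exact Z0_comm M he hc ha h2 h1.spl

theorem Z0_sq (he : IsCw e) (hc : e.card = 8) {a : G} (ha : a ∈ Z0 M e) : a * a = 1 := by
  obtain ⟨v, h1, h2⟩ := ha
  exact (M.sq_iff h2).2 (h1.norm he hc)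

theorem spl_of_comm (he : IsCw e) (hc : e.card = 8) {x : G} {u : leechLattice} (hx : R x u)
    (h1 : ∀ i ∈ e, ∀ j ∈ e, ∃ b, R b (w4 i j 1 rfl) ∧ x * b = b * x)
    (h2 : ∃ b, R b (lTwo he) ∧ x * b = b * x) : Spl e u := by
  refine spl_of he hc (fun i hi j hj => ?_) ?_
  · obtain ⟨b, h3, h4⟩ := h1 i hi j hj
    exact (M.comm_iff hx h3).1 h4
  · obtain ⟨b, h3, h4⟩ := h2
    exact (M.comm_iff hx h3).1 h4

omit M [Finite G] in
theorem fx_w4 {i j : GolayPt} (hi : i ∈ e) (hj : j ∈ e) : Fx e (w4 i j 1 rfl) := fun l hl => by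
  rw [w4_apply, if_neg (by rintro rfl; exact hl hi), if_neg (by rintro rfl; exact hl hj)]; rfl

omit M [Finite G] in
theorem fx_vTwo (he : IsCw e) : Fx e (lTwo he) := fun _ hl => if_neg hl

theorem spl_of_cent (he : IsCw e) (hc : e.card = 8) {x : G} {u : leechLattice} (hx : R x u)
    (h : ∀ b ∈ Z0 M e, x * b = b * x) : Spl e u := by
  refine spl_of_comm M he hc hx (fun i hi j hj => ?_) ?_
  · obtain ⟨b, hb⟩ := M.ex' (w4 i j 1 rfl)
    exact ⟨b, hb, h b ⟨_, fx_w4 hi hj, hb⟩⟩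
  · obtain ⟨b, hb⟩ := M.ex' (lTwo he)
    exact ⟨b, hb, h b ⟨_, fx_vTwo he, hb⟩⟩

theorem mem_Z0_of (he : IsCw e) (hc : e.card = 8) {b : G} (hb : b ∈ Q)
    (h : ∀ x u, R x u → Spl e u → x * b = b * x) : b ∈ Z0 M e := by
  by_contra hn
  obtain ⟨x, hx, h1, h2⟩ := M.lx.sep _ (Z0_le M) (z_mem_Z0 M) b hb hn
  obtain ⟨u, hu⟩ := M.ex x hx
  rw [h x u hu (spl_of_cent M he hc hu h1), mul_inv_cancel_right] at h2
  exact z_mul_ne M b h2.symm

theorem quot_mem_Z0 {he : IsCw e} (hc : e.card = 8) {y y' : G} (ho : Ov π y (signC e he))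
    (hn : Nz z Q y) (ho' : Ov π y' (signC e he)) (hn' : Nz z Q y') : y * y'⁻¹ ∈ Z0 M e :=
  mem_Z0_of M he hc (ho.quot M ho') fun x u hx hu => by
    have h1 := comm_of_spl M ho hn hx hu
    have h2 := comm_of_spl M ho' hn' hx hu
    calc x * (y * y'⁻¹) = y * x * y⁻¹ * (y * y'⁻¹) := by rw [h1]
      _ = y * y'⁻¹ * (y' * x * y'⁻¹) := by group
      _ = _ := by rw [h2]

theorem nz_mul {he : IsCw e} (hc : e.card = 8) {b y : G} (hb : b ∈ Z0 M e)
    (ho : Ov π y (signC e he)) (hn : Nz z Q y) : Nz z Q (b * y) := fun x hx h => by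
  obtain ⟨u, hu⟩ := M.ex x hx
  have ho' := (ov_one M (Z0_le M hb)).mul ho
  rw [one_mul] at ho'
  have h1 := spl_of_conj M ho' hu (Or.inr h)
  refine z_mul_ne M x (h.symm.trans ?_)
  calc b * y * x * (b * y)⁻¹ = b * (y * x * y⁻¹) * b⁻¹ := by group
    _ = x := by rw [comm_of_spl M ho hn hu h1, Z0_comm M he hc hb hu h1, mul_inv_cancel_right]

theorem Z0_comm_nz {he : IsCw e} {b y : G} (hb : b ∈ Z0 M e)
    (ho : Ov π y (signC e he)) (hn : Nz z Q y) : y * b = b * y := by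
  obtain ⟨v, h1, h2⟩ := hb
  exact mul_inv_eq_iff_eq_mul.1 (comm_of_spl M ho hn h2 h1.spl)

variable {g : G} (h8 : R (g * z * g⁻¹) (e8 none))

/-- the group `2^10` -/
def EE (he : IsCw e) (hc : e.card = 8) : Subgroup G where
  carrier := {y | y ∈ Z0 M e ∨ (Ov π y (signC e he) ∧ Nz z Q y)}
  one_mem' := Or.inl (one_mem _)
  mul_mem' := by
    rintro a b (ha | ⟨ha, ha'⟩) (hb | ⟨hb, hb'⟩)
    · exact Or.inl (mul_mem ha hb)
    · exact Or.inr ⟨by simpa using (ov_one M (Z0_le M ha)).mul hb, nz_mul M hc ha hb hb'⟩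
    · rw [Z0_comm_nz M hb ha ha']
      exact Or.inr ⟨by simpa using (ov_one M (Z0_le M hb)).mul ha, nz_mul M hc hb ha ha'⟩
    · have := quot_mem_Z0 M hc ha ha' hb hb'
      rw [inv_eq_of_mul_eq_one_right (sq_of_nz M h8 hc hb hb')] at this
      exact Or.inl this
  inv_mem' := by
    rintro a (ha | ⟨ha, ha'⟩)
    · exact Or.inl (inv_mem ha)
    · rw [inv_eq_of_mul_eq_one_right (sq_of_nz M h8 hc ha ha')]
      exact Or.inr ⟨ha, ha'⟩

variable {he : IsCw e} {hc : e.card = 8}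

theorem Z0_le_EE : Z0 M e ≤ EE M h8 he hc := fun _ h => Or.inl h

theorem EE_sq {a : G} (ha : a ∈ EE M h8 he hc) : a * a = 1 :=
  ha.elim (Z0_sq M he hc) fun h => sq_of_nz M h8 hc h.1 h.2

theorem EE_comm {a b : G} (ha : a ∈ EE M h8 he hc) (hb : b ∈ EE M h8 he hc) : a * b = b * a := by
  rw [← inv_eq_of_mul_eq_one_right (EE_sq M h8 (mul_mem ha hb)), mul_inv_rev,
    inv_eq_of_mul_eq_one_right (EE_sq M h8 ha), inv_eq_of_mul_eq_one_right (EE_sq M h8 hb)]

theorem EE_inf {a : G} (ha : a ∈ EE M h8 he hc) (hq : a ∈ Q) : a ∈ Z0 M e :=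
  ha.resolve_right fun h => not_mem_of_sign M (by omega) (by omega) h.1 hq

theorem conj_mem_EE {e' : Finset GolayPt} {he' : IsCw e'} {hc' : e'.card = 8} {h a : G} {k : Co0}
    (hh : Ov π h k) (hk : k * signC e he * k⁻¹ = signC e' he') (ha : a ∈ EE M h8 he hc) :
    h * a * h⁻¹ ∈ EE M h8 he' hc' := by
  rcases ha with ⟨v, h1, h2⟩ | ⟨h1, h2⟩
  · refine Or.inl ⟨_, fun i hi => ?_, hh.lab M h2⟩
    have h3 : signC e' he' • k • v = -(k • v) := by
      rw [← hk, ← mul_smul, inv_mul_cancel_right, mul_smul, h1.sign he, co0_smul_neg]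
    have := congrArg (fun x : leechLattice => (x : Vec) i) h3
    simp only [signC_apply, if_neg hi, AddSubgroup.coe_neg, Pi.neg_apply] at this
    omega
  · exact Or.inr ⟨hk ▸ hh.conj h1, h2.conj M.lx hh.comm⟩

include h8

theorem sing_iff (he : IsCw e) (hc : e.card = 8) {b : G} {v : leechLattice} (hb : R b v)
    (hv : Fx e v) : Sing z b ↔ (64 : ℤ) ∣ sqNorm (v : Vec) := by
  rcases M.short (M.mem hb) with h | ⟨y, hy, h⟩
  · obtain ⟨w, hw⟩ := (M.one_iff hb).1 h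
    refine iff_of_true (h.imp id fun h => by rw [h]) ?_
    have := sixteen_dvd_sqNorm w.2
    rw [hw, AddSubgroup.coe_add, sqNorm_add, dot_self]
    omega
  obtain ⟨w, hw⟩ := M.congr hy hb
  have h1 := norm_congr he hc hv hw (Or.inl (by omega))
  have h2 := hv.norm he hc
  obtain ⟨n1, n2⟩ := M.ne_of_short hy (by omega) (by omega)
  rcases h with h | h | h
  · refine iff_of_false (fun hs => ?_) (by omega)
    obtain ⟨c, rfl⟩ := isConj_iff.1 (hs.resolve_left n1)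
    obtain ⟨y', h3, h4⟩ := M.type_four (M.mem hy) n2
    have := M.norm_eq hy h3 (by omega) (by omega) (by omega) (by omega)
    omega
  · omega
  · exact iff_of_true (Or.inr (M.isConj_of_four (M.mem h8) (s_ne M h8) hy h)) (by omega)

theorem const_of_mem {q : G} {v : leechLattice} (hq : R q v) (h : q ∈ cjs g Q) :
    ∃ a, ∀ i, ((v : Vec) i - 2 * a) % 4 = 0 := by
  obtain ⟨a, ha⟩ := const_of_pairs (e := Finset.univ) (by decide) v fun i _ j _ _ => by
    obtain ⟨x, hx⟩ := M.ex' (w4 i j 1 rfl)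
    have := (M.comm_iff hq hx).1 (M.comm_inf (s_ne M h8) (M.mem hq) h (M.mem hx)
      (mem_of_four M h8 hx fun l => by rw [w4_apply]; split_ifs <;> rfl))
    rw [dot_w4] at this
    omega
  exact ⟨a, fun i => ha i (Finset.mem_univ i)⟩

theorem two_not_mem (hc : e.card = 8) {x : G} (hx : R x (lTwo he)) : x ∉ cjs g Q := fun h => by
  obtain ⟨a, ha⟩ := const_of_mem M h8 hx h
  obtain ⟨i, hi⟩ := Finset.card_pos.1 (show 0 < e.card by omega)
  obtain ⟨j, hj⟩ := exists_not_mem hc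
  have h1 := ha i
  have h2 := ha j
  simp only [lTwo_apply, if_pos hi, if_neg hj] at h1 h2
  omega

theorem exists_sign {y : G} (hy : y ∈ cjs g Q) (hz : y * z = z * y) :
    ∃ d hd, Ov π y (signC d hd) := by
  have hz' := mem_centralizer_singleton_iff.2 hz
  obtain ⟨k, hk⟩ := ov_ex π hz'
  have : k ∈ pb π (cjs g Q ⊓ centralizer ({z} : Set G)) := mem_pb.2 ⟨⟨y, hz'⟩, ⟨hy, hz'⟩, hk.2⟩
  rw [(M.pb_A (M.mem h8) (s_ne M h8) h8).1] at this
  obtain ⟨d, hd, rfl⟩ := mem_signG.1 this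
  exact ⟨d, hd, hk⟩

theorem mem_of_third {y a : G} (hy : y * z * y⁻¹ = g * z * g⁻¹ * z) (ha : a ∈ Q)
    (ha' : y⁻¹ * a * y ∈ Q) : a ∈ cjs g Q := by
  obtain ⟨q, hq⟩ := M.ex' lOdd
  have e1 := odd_s M h8 hq
  have hs := M.lx.cen _ (M.mem h8)
  have h1 := M.lx.norm ((q * g)⁻¹ * y) (by
    calc (q * g)⁻¹ * y * z = (q * g)⁻¹ * (y * z * y⁻¹) * y := by group
      _ = z * ((q * g)⁻¹ * y) := by rw [hy, hs, ← e1]; group) _ ha'
  have h2 : q⁻¹ * a * q⁻¹⁻¹ ∈ cjs g Q := mem_cjs.2 (by simpa [mul_assoc] using h1)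
  rcases M.lx.comm _ (inv_mem (M.mem hq)) a ha with h | h <;> rw [h] at h2
  · exact h2
  · exact (mul_mem_cancel_left (z_mem M h8)).1 h2

theorem comm_z_of {x w : G} (hx : x ∉ cjs g Q) (hxs : x ∈ Q) (hw : w ∈ cjs g Q)
    (h : w * x * w⁻¹ ∈ Q) : w * z = z * w := by
  have L := lx_cjs M.lx g
  refine mul_inv_eq_iff_eq_mul.1 ((L.comm w hw z (z_mem M h8)).resolve_right fun h1 => hx ?_)
  have := mem_of_third M h8 h1 h (by simpa [mul_assoc] using hxs)
  simpa [mul_assoc] using mul_mem (mul_mem (inv_mem hw) this) hw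

theorem nz_two (hc : e.card = 8) {x : G} (hx : R x (lTwo he)) :
    Nz (g * z * g⁻¹) (cjs g Q) x := fun y hy h => by
  have L := lx_cjs M.lx g
  have e1 : y⁻¹ * x * y⁻¹⁻¹ = x * (g * z * g⁻¹) := by
    have h1 := (comm_s M h8 hx).2 (by rw [lTwo_apply]; split_ifs <;> rfl)
    calc y⁻¹ * x * y⁻¹⁻¹ = y⁻¹ * (x * y * x⁻¹) * x := by group
      _ = _ := by rw [h, ← L.cen y hy, h1]; group
  obtain ⟨d, hd, ho⟩ := exists_sign M h8 (inv_mem hy) (comm_z_of M h8 (two_not_mem M h8 hc hx)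
    (M.mem hx) (inv_mem hy) (e1 ▸ mul_mem (M.mem hx) (M.mem h8)))
  have h1 := ho.lab M hx
  rw [e1] at h1
  obtain ⟨w, hw⟩ := M.congr (M.mul hx h8) h1
  exact absurd (sign_vTwo he hc hd (δ := 1) (Or.inr rfl) (by rw [one_smul]; exact hw)).1 one_ne_zero

theorem not_nz_dodecad {d : Finset GolayPt} {hd : IsCw d} (hc : d.card = 12) {y : G}
    (ho : Ov π y (signC d hd)) (hn : Nz z Q y) (h2 : y * y = 1) : False := by
  obtain ⟨q, hq⟩ := M.ex' lOdd
  have hx := M.mul hq (ho.lab M (M.inv (M.neg hq)))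
  have h1 := dvd_norm_sub ((lOdd + signC d hd • (-lOdd) : leechLattice) : Vec)
    (fun i => if i ∈ d then 4 else 0) fun i => by
      rw [AddSubgroup.coe_add, Pi.add_apply, signC_apply, AddSubgroup.coe_neg, Pi.neg_apply]
      rcases lOdd_val i with h | h <;> rw [h] <;> split_ifs <;> norm_num
  rw [Finset.sum_ite_mem, Finset.univ_inter, Finset.sum_const, hc] at h1
  simp only [nsmul_eq_mul, Nat.cast_ofNat] at h1
  have h3 := (M.lx.sqr _ (M.mem hx)).resolve_left fun h => by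
    have := (M.sq_iff hx).1 h; omega
  refine hn _ (M.mem hx) ?_
  calc y * (q * (y * q⁻¹ * y⁻¹)) * y⁻¹ = y * q * y⁻¹ * (y * y) * q⁻¹ * (y * y)⁻¹ := by group
    _ = (q * (y * q⁻¹ * y⁻¹))⁻¹ := by rw [h2]; group
    _ = _ := by
      rw [inv_eq_iff_mul_eq_one, ← mul_assoc, M.lx.cen _ (M.mem hx), mul_assoc, h3, M.lx.sq]

theorem Z0_cases (hc : e.card = 8) {x b : G} (hx : R x (lTwo he)) (hb : b ∈ Z0 M e) :
    (∃ v, Fx e v ∧ R b v ∧ ∀ i, (v : Vec) i % 4 = 0) ∨
      ∃ v, Fx e v ∧ R (b * x) v ∧ ∀ i, (v : Vec) i % 4 = 0 := by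
  obtain ⟨v, h1, h2⟩ := hb
  rcases h1.cases he hc with h | h
  · exact Or.inl ⟨v, h1, h2, h⟩
  · refine Or.inr ⟨_, h1.add (fx_vTwo he), M.mul h2 hx, fun i => ?_⟩
    rw [AddSubgroup.coe_add, Pi.add_apply]
    by_cases hi : i ∈ e
    · have := h i hi
      simp only [lTwo_apply, if_pos hi]; omega
    · simp only [lTwo_apply, if_neg hi, h1 i hi]; rfl

theorem comm_four (hc : e.card = 8) {x b w : G} {v : leechLattice} (hx : R x (lTwo he))
    (hb : R b v) (hv : Fx e v) (h4 : ∀ i, (v : Vec) i % 4 = 0) (hw : w ∈ cjs g Q)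
    (h : w * x * w⁻¹ = x) : w * b * w⁻¹ = b := by
  obtain ⟨d, hd, ho⟩ := exists_sign M h8 hw (comm_z_of M h8 (two_not_mem M h8 hc hx)
    (M.mem hx) hw (h.symm ▸ M.mem hx))
  have h1 := ho.lab M hx
  rw [h] at h1
  obtain ⟨w', hw'⟩ := M.congr hx h1
  have h2 := (sign_vTwo he hc hd (δ := 0) (Or.inl rfl) (by rw [zero_smul, add_zero]; exact hw')).2
  have h3 : R (w * b * w⁻¹) v := by
    have := ho.lab M hb
    rcases h2 with h2 | h2
    · rwa [(H26.CoInv.signC_fix hd).2 fun i hi => hv i (Finset.disjoint_left.1 h2 hi)] at this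
    · rw [Fx.sign hd fun i hi => hv i fun h => hi (h2 h)] at this
      simpa using M.neg this
  rcases M.uniq hb h3 with h | h
  · exact h
  · rcases (lx_cjs M.lx g).comm w hw b (mem_of_four M h8 hb h4) with h' | h'
    · exact h'
    · exact absurd (mul_right_cancel (h'.symm.trans h)) (s_ne M h8)

theorem exists_nz_mem (he : IsCw e) (hc : e.card = 8) :
    ∃ s0 ∈ cjs g Q, Ov π s0 (signC e he) ∧ Nz z Q s0 := by
  obtain ⟨r, hr, hr'⟩ := exists_r M h8 e he
  obtain ⟨b, hb, hn⟩ := exists_nz M.lx hr'.comm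
  obtain ⟨v, hv⟩ := M.ex _ hb
  obtain ⟨c, hc1, hc2⟩ := conj_mem_of_cst M h8 hr hr' hv (cst_of_nz M h8 (by omega)
    (by rw [card_compl']; omega) hr hr' hv hn)
  exact ⟨_, hc2, by simpa using (ov_one M hc1).conj ((ov_one M hb).mul hr'),
    hn.conj M.lx (M.lx.cen c hc1)⟩

end Cfsg.Agent.H38.MT
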